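import Mathlib.RingTheory.Polynomial.GaussLemma
import Mathlib.FieldTheory.Perfect
import Mathlib.FieldTheory.Separable
import Mathlib.Algebra.Squarefree.Basic
import Mathlib.RingTheory.Localization.Integral

/-!
# The squarefree part of a monic polynomial over an integrally closed domain of characteristic zero
-/

set_option autoImplicit false

namespace Groth.Agent.An.H870.SepPart

open Polynomial nonZeroDivisors

/-- A Bezout relation with a denominator. -/
theorem exists_bezout {R : Type*} [CommRing R] [IsDomain R] (K : Type*) [Field K] [Algebra R K]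
    [IsFractionRing R K] (Q : R[X]) (hQ : (Q.map (algebraMap R K)).Separable) :
    ∃ (u v : R[X]) (δ : R), δ ≠ 0 ∧ u * Q + v * derivative Q = C δ := by
  obtain ⟨u, v, huv⟩ := hQ
  obtain ⟨b1, hb1, hb1u⟩ := IsLocalization.integerNormalization_spec R⁰ u
  obtain ⟨b2, hb2, hb2v⟩ := IsLocalization.integerNormalization_spec R⁰ v
  set U := IsLocalization.integerNormalization R⁰ u
  set V := IsLocalization.integerNormalization R⁰ v
  have hb10 : b1 ≠ 0 := nonZeroDivisors.ne_zero hb1
  have hb20 : b2 ≠ 0 := nonZeroDivisors.ne_zero hb2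
  refine ⟨C b2 * U, C b1 * V, b1 * b2, mul_ne_zero hb10 hb20, ?_⟩
  apply Polynomial.map_injective (algebraMap R K) (IsFractionRing.injective R K)
  rw [Polynomial.map_add, Polynomial.map_mul, Polynomial.map_mul, Polynomial.map_mul,
    Polynomial.map_mul, ← derivative_map, hb1u, hb2v, map_C, map_C, map_C]
  have h3 : ∀ (r : R) (p : K[X]), r • p = C (algebraMap R K r) * p := by
    intro r p
    rw [← Polynomial.smul_eq_C_mul, algebraMap_smul]
  rw [h3, h3, map_mul, C_mul]
  linear_combination (C (algebraMap R K b1) * C (algebraMap R K b2)) * huv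

/-- The squarefree part of a monic polynomial. -/
theorem exists_sepPart {R : Type*} [CommRing R] [IsDomain R] [IsIntegrallyClosed R] [CharZero R]
    (P : R[X]) (hP : P.Monic) :
    ∃ (Q : R[X]) (n : ℕ) (u v : R[X]) (δ : R), Q.Monic ∧ Q ∣ P ∧ P ∣ Q ^ n ∧ δ ≠ 0 ∧
      u * Q + v * derivative Q = C δ := by
  let K := FractionRing R
  have : CharZero K := charZero_of_injective_algebraMap (IsFractionRing.injective R K)
  have hPK : (P.map (algebraMap R K)).Monic := hP.map _
  obtain ⟨y, n, hy, hyP, hPy⟩ := exists_squarefree_dvd_pow_of_ne_zero hPK.ne_zero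
  obtain ⟨Q, hQ⟩ := IsIntegrallyClosed.eq_map_mul_C_of_dvd K hP hyP
  have hy0 : y ≠ 0 := hy.ne_zero
  have hlc : leadingCoeff y ≠ 0 := leadingCoeff_ne_zero.2 hy0
  have hunit : IsUnit (C (leadingCoeff y)) := isUnit_C.2 hlc.isUnit
  have hassoc : Associated (Q.map (algebraMap R K)) y := ⟨hunit.unit, hQ⟩
  have hQm : Q.Monic := by
    have h1 : (Q.map (algebraMap R K)).Monic := by
      have h2 := congrArg leadingCoeff hQ
      rw [leadingCoeff_mul, leadingCoeff_C] at h2
      exact mul_right_cancel₀ hlc (h2.trans (one_mul _).symm)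
    exact Polynomial.monic_of_injective (IsFractionRing.injective R K) h1
  have hsep : (Q.map (algebraMap R K)).Separable := by
    rw [PerfectField.separable_iff_squarefree]
    exact hassoc.squarefree_iff.2 hy
  obtain ⟨u, v, δ, hδ, hbez⟩ := exists_bezout K Q hsep
  refine ⟨Q, n, u, v, δ, hQm, ?_, ?_, hδ, hbez⟩
  · exact hP.dvd_of_fraction_map_dvd_fraction_map (K := K) hQm (hassoc.dvd.trans hyP)
  · refine (hQm.pow n).dvd_of_fraction_map_dvd_fraction_map (K := K) hP ?_
    rw [Polynomial.map_pow]
    exact hPy.trans (pow_dvd_pow_of_dvd hassoc.symm.dvd n)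

end Groth.Agent.An.H870.SepPart
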