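import Mathlib.Algebra.MvPolynomial.Eval
import Mathlib.Topology.Covering.Basic
import Mathlib.FieldTheory.Separable
import Mathlib.Analysis.Complex.Basic

/-!
# Riemann's existence theorem over affine space: the exact interface

`CORE`: every finite covering of the complement of a hypersurface in `ℂⁿ` is, after enlarging the hypersurface,
the covering defined by a monic polynomial with coefficients in `ℂ[x₁, ..., xₙ]` and separable fibres.
-/

set_option autoImplicit false

namespace Groth.Agent.An.H870.CoreDef

open MvPolynomial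

/-- Riemann's existence theorem over affine space, generic form. -/
def CORE : Prop :=
  ∀ (n : ℕ) (q : MvPolynomial (Fin n) ℂ), q ≠ 0 →
    ∀ (E : Type) [TopologicalSpace E] (p : E → (Fin n → ℂ)),
      IsCoveringMapOn p {z | eval z q ≠ 0} → (∀ e, eval (p e) q ≠ 0) →
      (∀ z, (p ⁻¹' {z}).Finite) →
      ∃ (q' : MvPolynomial (Fin n) ℂ) (f : Polynomial (MvPolynomial (Fin n) ℂ)) (F : E → ℂ),
        q' ≠ 0 ∧ f.Monic ∧ ContinuousOn F {e | eval (p e) q' ≠ 0} ∧
        (∀ z, eval z q' ≠ 0 → (f.map (eval z)).Separable) ∧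
        ∀ z, eval z q' ≠ 0 → eval z q ≠ 0 →
          Set.BijOn F (p ⁻¹' {z}) {t | (f.map (eval z)).IsRoot t}

end Groth.Agent.An.H870.CoreDef
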