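import Groth.Agent.S2611
import Groth.Agent.S2686
import Groth.Agent.Ega4C.LocusFibre
import Groth.Agent.Ega4A.CplQuot
import Groth.Agent.CurvesC.RegNormal
import Groth.Agent.S0598
import Groth.Agent.S0599
import Groth.Agent.Ega4B.GRingLoc

/-!
# The completed local rings of a normal affine variety over a field are domains
-/

set_option autoImplicit false
universe u

namespace Groth.Agent.An.H870.CplDomain

open EGA4

lemma isNormalRing_of_isRegularRing (R : Type u) [CommRing R] (h : IsRegularRing R) :
    IsNormalRing R := by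
  intro p hp
  have := h.isRegularLocalRing_localization p
  exact ⟨Groth.Agent.CurvesC.RegNormal.isDomain _, Groth.Agent.CurvesC.RegNormal.isIntegrallyClosed _⟩

/-- The completion of an excellent normal local domain is a domain. -/
theorem isDomain_cpl (A : Type u) [CommRing A] [IsDomain A] [IsLocalRing A] [IsNoetherianRing A]
    [IsIntegrallyClosed A] (hA : CAlg.IsGRing A) : IsDomain (Cpl A) := by
  have h1 : ∀ (p : Ideal A) [p.IsPrime], HasGeomNormalFormalFibres (Localization.AtPrime p) := by
    intro p hp q hq k' _ _ hfin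
    exact isNormalRing_of_isRegularRing _ (((hA.2 p).2 q).2 k' hfin)
  have h2 : IsNormalHom A (Cpl A) := Groth.Agent.S2686.result A h1 (IsLocalRing.maximalIdeal A)
  have h3 := Groth.Agent.Ega4C.LocusFibre.fibLocRing_normal_of_isNormalHom (A := A) (B := Cpl A) h2
  have hN : IsNoetherianRing (Cpl A) := Groth.Agent.Ega4A.CplQuot.isNoetherianRing_cpl A
  have hL : IsLocalRing (Cpl A) := Groth.Agent.Ega4A.CplQuot.isLocalRing_cpl A
  have hflat : Module.Flat A (Cpl A) := h2.1
  let m := IsLocalRing.maximalIdeal (Cpl A)
  have h4 : IsDomain (Localization.AtPrime (m.comap (algebraMap A (Cpl A)))) :=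
    inferInstance
  have h5 : IsIntegrallyClosed (Localization.AtPrime (m.comap (algebraMap A (Cpl A)))) :=
    isIntegrallyClosed_of_isLocalization _ (m.comap (algebraMap A (Cpl A))).primeCompl
      (Ideal.primeCompl_le_nonZeroDivisors _)
  obtain ⟨h6, -⟩ := Groth.Agent.S2611.result A (Cpl A) (fun q _ => h3 q) m
  have h7 : ∀ x ∈ m.primeCompl, IsUnit x := fun x hx => by
    by_contra h8
    exact hx ((IsLocalRing.mem_maximalIdeal x).mpr h8)
  exact MulEquiv.isDomain (Localization.AtPrime m)
    (IsLocalization.atUnits (Cpl A) m.primeCompl h7).toMulEquiv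

end Groth.Agent.An.H870.CplDomain
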