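import Mathlib.Topology.Covering.Basic

/-!
# Extension of maps into a finite covering, across a locally non-separating closed set
-/

set_option autoImplicit false

namespace Groth.Agent.An.H870.ExtMap

open Topology Filter

/-- The sheets of a covering over a neighbourhood of `x`. -/
theorem exists_sheets {E X : Type*} [TopologicalSpace E] [TopologicalSpace X] {p : E → X} {x : X}
    {I : Type*} [TopologicalSpace I] (h : IsEvenlyCovered p x I) :
    ∃ (V : Set X) (s : p ⁻¹' {x} → X → E), IsOpen V ∧ x ∈ V ∧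
      (∀ i, ∀ x' ∈ V, ContinuousAt (s i) x') ∧ (∀ i, ∀ x' ∈ V, p (s i x') = x') ∧
      (∀ i, s i x = i) ∧ (∀ e, p e ∈ V → ∃ i, s i (p e) = e) ∧
      (∀ i j, ∀ x' ∈ V, s i x' = s j x' → i = j) ∧
      (∀ i, IsOpen {e | p e ∈ V ∧ s i (p e) = e}) := by
  classical
  obtain ⟨hd, V, hxV, hV, hfV, H, hH⟩ := h
  have hmem : ∀ i : p ⁻¹' {x}, p i.1 ∈ V := fun i => by
    have : p i.1 = x := i.2
    rwa [this]
  have hsymm : ∀ u : V × I, p (H.symm u).1 = u.1.1 := fun u => by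
    rw [← hH, H.apply_symm_apply]
  let idx : p ⁻¹' {x} → I := fun i => (H ⟨i.1, hmem i⟩).2
  have hidx : ∀ i, H ⟨i.1, hmem i⟩ = (⟨x, hxV⟩, idx i) := by
    intro i
    refine Prod.ext (Subtype.ext ?_) rfl
    rw [hH]
    exact i.2
  let s : p ⁻¹' {x} → X → E := fun i x' =>
    if hx' : x' ∈ V then (H.symm (⟨x', hx'⟩, idx i)).1 else i.1
  have hs : ∀ i x' (hx' : x' ∈ V), s i x' = (H.symm (⟨x', hx'⟩, idx i)).1 := by
    intro i x' hx'
    simp only [s]
    rw [dif_pos hx']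
  have hidxinj : Function.Injective idx := by
    intro i j hij
    have h1 : H ⟨i.1, hmem i⟩ = H ⟨j.1, hmem j⟩ := by rw [hidx, hidx, hij]
    exact Subtype.ext (congrArg (fun z => z.1) (H.injective h1))
  have hs3 : ∀ i, s i x = i := by
    intro i
    rw [hs i x hxV, ← hidx, H.symm_apply_apply]
  refine ⟨V, s, hV, hxV, ?_, ?_, hs3, ?_, ?_, ?_⟩
  · intro i x' hx'
    have h1 : ContinuousOn (s i) V := by
      rw [continuousOn_iff_continuous_domRestrict]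
      have h2 : V.domRestrict (s i) = fun y : V => (H.symm (y, idx i)).1 := by
        funext y
        exact hs i y.1 y.2
      rw [h2]
      exact continuous_subtype_val.comp (H.symm.continuous.comp (Continuous.prodMk_left _))
    exact h1.continuousAt (hV.mem_nhds hx')
  · intro i x' hx'
    rw [hs i x' hx', hsymm]
  · intro e he
    let j : I := (H ⟨e, he⟩).2
    have h0 : p (H.symm (⟨x, hxV⟩, j)).1 = x := hsymm _
    refine ⟨⟨(H.symm (⟨x, hxV⟩, j)).1, h0⟩, ?_⟩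
    have h1 : idx ⟨(H.symm (⟨x, hxV⟩, j)).1, h0⟩ = j := by
      simp only [idx]
      have : (⟨(H.symm (⟨x, hxV⟩, j)).1, hmem ⟨(H.symm (⟨x, hxV⟩, j)).1, h0⟩⟩ : p ⁻¹' V) =
          H.symm (⟨x, hxV⟩, j) := rfl
      rw [this, H.apply_symm_apply]
    rw [hs _ _ he, h1]
    have h2 : H ⟨e, he⟩ = (⟨p e, he⟩, j) := Prod.ext (Subtype.ext (hH _)) rfl
    rw [← h2, H.symm_apply_apply]
  · intro i j x' hx' hij
    rw [hs i x' hx', hs j x' hx'] at hij
    have h1 : ((⟨x', hx'⟩, idx i) : V × I) = (⟨x', hx'⟩, idx j) :=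
      H.symm.injective (Subtype.ext hij)
    exact hidxinj (Prod.ext_iff.1 h1).2
  · intro i
    have h1 : IsOpen ((fun z : p ⁻¹' V => (H z).2) ⁻¹' {idx i}) :=
      (isOpen_discrete _).preimage (continuous_snd.comp H.continuous)
    have h2 := hfV.isOpenMap_subtype_val _ h1
    convert h2 using 1
    ext e
    constructor
    · rintro ⟨he1, he2⟩
      refine ⟨⟨e, he1⟩, ?_, rfl⟩
      change (H ⟨e, he1⟩).2 = idx i
      rw [hs i _ he1] at he2
      have h3 : (⟨e, he1⟩ : p ⁻¹' V) = H.symm (⟨p e, he1⟩, idx i) := Subtype.ext he2.symm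
      rw [h3, H.apply_symm_apply]
    · rintro ⟨⟨e', he'⟩, h3, rfl⟩
      refine ⟨he', ?_⟩
      rw [hs i _ he']
      have h4 : (H ⟨e', he'⟩).2 = idx i := h3
      have h2 : H ⟨e', he'⟩ = (⟨p e', he'⟩, idx i) := Prod.ext (Subtype.ext (hH _)) h4
      rw [← h2, H.symm_apply_apply]

/-- `U` is dense at `y` and its complement does not separate `Y` locally at `y`. -/
def UniAt {Y : Type*} [TopologicalSpace Y] (U : Set Y) (y : Y) : Prop :=
  (∃ᶠ y' in 𝓝 y, y' ∈ U) ∧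
    ∀ Z : Set Y, (∀ᶠ y' in 𝓝 y, y' ∈ U → ∀ᶠ y'' in 𝓝 y', (y'' ∈ Z ↔ y' ∈ Z)) →
      (∀ᶠ y' in 𝓝 y, y' ∈ U → y' ∉ Z) ∨ (∀ᶠ y' in 𝓝 y, y' ∈ U → y' ∈ Z)

variable {Y X E : Type*} [TopologicalSpace Y] [TopologicalSpace X] [TopologicalSpace E]

/-- Near a point where `U` is locally connected, a map from `U` to a finite covering is given by a
section. -/
theorem exists_section {p : E → X} (hp : IsCoveringMap p) (hfin : ∀ x, (p ⁻¹' {x}).Finite)
    {U : Set Y} {g : Y → X} {y : Y} (hg : ContinuousAt g y) (hU : UniAt U y) {T : Y → E}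
    (hT : ∀ᶠ y' in 𝓝 y, y' ∈ U → ContinuousAt T y')
    (hTg : ∀ᶠ y' in 𝓝 y, y' ∈ U → p (T y') = g y') :
    ∃ (V : Set X) (s : X → E), IsOpen V ∧ g y ∈ V ∧ (∀ x' ∈ V, ContinuousAt s x') ∧
      (∀ x' ∈ V, p (s x') = x') ∧ (∀ᶠ y' in 𝓝 y, y' ∈ U → T y' = s (g y')) := by
  classical
  obtain ⟨V, s, hV, hgV, hs1, hs2, hs3, hs4, hs5, hs6⟩ := exists_sheets (hp (g y))
  have hfin' : Finite (p ⁻¹' {g y}) := hfin (g y)
  have hgev : ∀ᶠ y' in 𝓝 y, g y' ∈ V := hg.eventually_mem (hV.mem_nhds hgV)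
  -- the sets of points in a given sheet
  let Z : p ⁻¹' {g y} → Set Y := fun i => {y' | T y' ∈ {e | p e ∈ V ∧ s i (p e) = e}}
  have hZ : ∀ i, (∀ᶠ y' in 𝓝 y, y' ∈ U → y' ∉ Z i) ∨ (∀ᶠ y' in 𝓝 y, y' ∈ U → y' ∈ Z i) := by
    intro i
    apply hU.2
    filter_upwards [hT, hTg, hgev] with y' h1 h2 h3 hy'U
    have h4 : p (T y') ∈ V := by rw [h2 hy'U]; exact h3
    obtain ⟨j, hj⟩ := hs4 (T y') h4
    have h5 : y' ∈ Z j := ⟨h4, hj⟩
    have h6 : ∀ᶠ y'' in 𝓝 y', y'' ∈ Z j := (h1 hy'U).eventually_mem ((hs6 j).mem_nhds h5)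
    by_cases hij : i = j
    · subst hij
      filter_upwards [h6] with y'' hy''
      exact ⟨fun _ => h5, fun _ => hy''⟩
    · have h7 : ∀ y'', y'' ∈ Z j → y'' ∉ Z i := by
        intro y'' h8 h9
        exact hij (hs5 i j _ h8.1 (h9.2.trans h8.2.symm))
      filter_upwards [h6] with y'' hy''
      exact ⟨fun h => absurd h (h7 _ hy''), fun h => absurd h (h7 _ h5)⟩
  obtain ⟨i, hi⟩ : ∃ i, ∀ᶠ y' in 𝓝 y, y' ∈ U → y' ∈ Z i := by
    by_contra hcon
    have h1 : ∀ i, ∀ᶠ y' in 𝓝 y, y' ∈ U → y' ∉ Z i := fun i => (hZ i).resolve_right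
      (fun h => hcon ⟨i, h⟩)
    have h2 := Filter.eventually_all.2 h1
    obtain ⟨y', hy'U, h3, h4, h5⟩ := (hU.1.and_eventually (h2.and (hTg.and hgev))).exists
    have h6 : p (T y') ∈ V := by rw [h4 hy'U]; exact h5
    obtain ⟨j, hj⟩ := hs4 (T y') h6
    exact h3 j hy'U ⟨h6, hj⟩
  refine ⟨V, s i, hV, hgV, hs1 i, hs2 i, ?_⟩
  filter_upwards [hi, hTg] with y' h1 h2 hy'U
  have h3 := (h1 hy'U).2
  rw [h2 hy'U] at h3
  exact h3.symm

/-- **Extension of maps into a finite covering.** -/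
theorem exists_extension {p : E → X} (hp : IsCoveringMap p) (hfin : ∀ x, (p ⁻¹' {x}).Finite)
    {U : Set Y} {g : Y → X} (hg : Continuous g) (hU : ∀ y, UniAt U y) {T : Y → E}
    (hT : ∀ y ∈ U, ContinuousAt T y) (hTg : ∀ y ∈ U, p (T y) = g y) :
    ∃ T' : Y → E, Continuous T' ∧ (∀ y, p (T' y) = g y) ∧ ∀ y ∈ U, T' y = T y := by
  have h1 : ∀ y, ∃ (V : Set X) (s : X → E), IsOpen V ∧ g y ∈ V ∧ (∀ x' ∈ V, ContinuousAt s x') ∧
      (∀ x' ∈ V, p (s x') = x') ∧ (∀ᶠ y' in 𝓝 y, y' ∈ U → T y' = s (g y')) := fun y =>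
    exists_section hp hfin hg.continuousAt (hU y) (Eventually.of_forall fun y' h => hT y' h)
      (Eventually.of_forall fun y' h => hTg y' h)
  choose V s hV hgV hs1 hs2 hs3 using h1
  have key : ∀ y, ∀ᶠ y' in 𝓝 y, s y' (g y') = s y (g y') := by
    intro y
    have h2 : ∀ᶠ y' in 𝓝 y, g y' ∈ V y := hg.continuousAt.eventually_mem ((hV y).mem_nhds (hgV y))
    filter_upwards [h2, eventually_eventually_nhds.2 (hs3 y)] with y' h3 h4
    by_contra hne
    have h5 : p (s y' (g y')) = p (s y (g y')) := by rw [hs2 y' _ (hgV y'), hs2 y _ h3]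
    obtain ⟨O₁, O₂, hO₁, hO₂, hm₁, hm₂, hdisj⟩ := hp.isSeparatedMap _ _ h5 hne
    have h6 : ∀ᶠ y'' in 𝓝 y', s y' (g y'') ∈ O₁ :=
      (((hs1 y' _ (hgV y')).comp hg.continuousAt : ContinuousAt (s y' ∘ g) y')).eventually_mem
        (hO₁.mem_nhds hm₁)
    have h7 : ∀ᶠ y'' in 𝓝 y', s y (g y'') ∈ O₂ :=
      (((hs1 y _ h3).comp hg.continuousAt : ContinuousAt (s y ∘ g) y')).eventually_mem
        (hO₂.mem_nhds hm₂)
    obtain ⟨y'', h8, h9, h10, h11, h12⟩ :=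
      ((hU y').1.and_eventually (h6.and (h7.and (h4.and (hs3 y'))))).exists
    have h13 : s y' (g y'') = s y (g y'') := (h12 h8).symm.trans (h11 h8)
    rw [h13] at h9
    exact Set.disjoint_left.1 hdisj h9 h10
  refine ⟨fun y => s y (g y), ?_, fun y => hs2 y _ (hgV y), fun y hy => ?_⟩
  · rw [continuous_iff_continuousAt]
    intro y
    have h2 : ContinuousAt (fun y' => s y (g y')) y := (hs1 y _ (hgV y)).comp hg.continuousAt
    exact h2.congr (by filter_upwards [key y] with y' hy' using hy'.symm)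
  · exact ((hs3 y).self_of_nhds hy).symm

end Groth.Agent.An.H870.ExtMap
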