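import Groth.Agent.An.H869.Growth
import Mathlib.RingTheory.MvPolynomial.Ideal
import Mathlib.RingTheory.MvPolynomial.Homogeneous
import Mathlib.Analysis.Asymptotics.Lemmas
import Mathlib.Topology.Algebra.Polynomial
import Mathlib.RingTheory.Filtration

/-!
# Order of vanishing of polynomials at a point, by norms
-/

set_option autoImplicit false

open Metric Set Filter Topology Asymptotics

noncomputable section

namespace Groth.Agent.An.H870.VanOrder

lemma X_pow_dvd_of_isBigO (p : Polynomial ℂ) (N : ℕ)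
    (h : (fun t : ℂ => p.eval t) =O[𝓝 0] (fun t : ℂ => ‖t‖ ^ N)) :
    Polynomial.X ^ N ∣ p := by
  induction N with
  | zero => simp
  | succ N ih =>
    have h1 : (fun t : ℂ => p.eval t) =O[𝓝 0] (fun t : ℂ => ‖t‖ ^ N) := by
      refine h.trans (IsBigO.of_bound 1 ?_)
      have : ∀ᶠ t : ℂ in 𝓝 0, ‖t‖ < 1 := by
        have := Metric.ball_mem_nhds (0 : ℂ) one_pos
        filter_upwards [this] with t ht
        simpa using ht
      filter_upwards [this] with t ht
      rw [norm_pow, norm_norm, norm_pow, norm_norm, one_mul, pow_succ]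
      exact mul_le_of_le_one_right (by positivity) ht.le
    obtain ⟨q, rfl⟩ := ih h1
    suffices hq : q.eval 0 = 0 by
      have : Polynomial.X ∣ q := by
        rw [Polynomial.X_dvd_iff, Polynomial.coeff_zero_eq_eval_zero]
        exact hq
      rw [pow_succ]
      exact mul_dvd_mul_left _ this
    obtain ⟨C, hC⟩ := h.bound
    have h2 : Tendsto (fun t : ℂ => q.eval t) (𝓝[≠] 0) (𝓝 0) := by
      rw [tendsto_zero_iff_norm_tendsto_zero]
      have h3 : Tendsto (fun t : ℂ => C * ‖t‖) (𝓝[≠] 0) (𝓝 0) := by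
        have : Tendsto (fun t : ℂ => C * ‖t‖) (𝓝 0) (𝓝 (C * ‖(0 : ℂ)‖)) :=
          (continuous_const.mul continuous_norm).tendsto 0
        rw [norm_zero, mul_zero] at this
        exact this.mono_left nhdsWithin_le_nhds
      refine squeeze_zero' (Eventually.of_forall fun _ => norm_nonneg _) ?_ h3
      filter_upwards [hC.filter_mono nhdsWithin_le_nhds, eventually_mem_nhdsWithin] with t ht ht0
      have ht0' : 0 < ‖t‖ := norm_pos_iff.2 ht0
      rw [Polynomial.eval_mul, Polynomial.eval_pow, Polynomial.eval_X, norm_mul, norm_pow, norm_pow,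
        norm_norm, pow_succ] at ht
      have : ‖t‖ ^ N * ‖Polynomial.eval t q‖ ≤ ‖t‖ ^ N * (C * ‖t‖) := by
        calc _ ≤ C * (‖t‖ ^ N * ‖t‖) := ht
          _ = _ := by ring
      exact le_of_mul_le_mul_left this (by positivity)
    have h4 : Tendsto (fun t : ℂ => q.eval t) (𝓝[≠] 0) (𝓝 (q.eval 0)) :=
      (q.continuous.tendsto 0).mono_left nhdsWithin_le_nhds
    exact tendsto_nhds_unique h4 h2

open MvPolynomial

variable {n : ℕ}

lemma eval_smul_of_isHomogeneous {P : MvPolynomial (Fin n) ℂ} {j : ℕ} (hP : P.IsHomogeneous j)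
    (t : ℂ) (w : Fin n → ℂ) : eval (t • w) P = t ^ j * eval w P := by
  rw [eval_eq', eval_eq', Finset.mul_sum]
  refine Finset.sum_congr rfl (fun d hd => ?_)
  have h1 : ∑ i, d i = j := by
    have := hP (mem_support_iff.1 hd)
    rw [← this, Finsupp.weight_apply, Finsupp.sum_fintype]
    · simp
    · simp
  simp only [Pi.smul_apply, smul_eq_mul, mul_pow, Finset.prod_mul_distrib]
  rw [Finset.prod_pow_eq_pow_sum, h1]
  ring

/-- A polynomial which is `O(‖z‖ ^ N)` at `0` lies in the `N`-th power of the ideal of the origin. -/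
theorem mem_pow_idealOfVars_of_isBigO (Q : MvPolynomial (Fin n) ℂ) (N : ℕ)
    (h : (fun z : Fin n → ℂ => eval z Q) =O[𝓝 0] (fun z => ‖z‖ ^ N)) :
    Q ∈ idealOfVars (Fin n) ℂ ^ N := by
  rw [mem_pow_idealOfVars_iff']
  intro d hd
  have key : homogeneousComponent d.degree Q = 0 := by
    refine (homogeneousComponent_isHomogeneous _ _).eq_zero_of_forall_eval_eq_zero (fun w => ?_)
    let p : Polynomial ℂ := ∑ j ∈ Finset.range (Q.totalDegree + 1),
      Polynomial.C (eval w (homogeneousComponent j Q)) * Polynomial.X ^ j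
    have hp : ∀ t : ℂ, p.eval t = eval (t • w) Q := by
      intro t
      have h0 : eval (t • w) Q = eval (t • w)
          (∑ j ∈ Finset.range (Q.totalDegree + 1), homogeneousComponent j Q) := by
        rw [sum_homogeneousComponent Q]
      rw [h0, map_sum]
      simp only [p, Polynomial.eval_finsetSum]
      refine Finset.sum_congr rfl (fun j _ => ?_)
      rw [eval_smul_of_isHomogeneous (homogeneousComponent_isHomogeneous j Q), Polynomial.eval_mul,
        Polynomial.eval_C, Polynomial.eval_pow, Polynomial.eval_X, mul_comm]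
    have h1 : (fun t : ℂ => p.eval t) =O[𝓝 0] (fun t : ℂ => ‖t‖ ^ N) := by
      have h2 : Tendsto (fun t : ℂ => t • w) (𝓝 0) (𝓝 0) := by
        have hc : Continuous (fun t : ℂ => t • w) := by fun_prop
        have h5 := hc.tendsto 0
        rwa [zero_smul] at h5
      have h3 := h.comp_tendsto h2
      have h4 : ((fun z : Fin n → ℂ => ‖z‖ ^ N) ∘ fun t : ℂ => t • w) =O[𝓝 0]
          (fun t : ℂ => ‖t‖ ^ N) := by
        refine IsBigO.of_bound (‖w‖ ^ N) (Eventually.of_forall fun t => ?_)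
        simp only [Function.comp_apply, norm_pow, norm_norm, norm_smul, mul_pow]
        rw [mul_comm, norm_mul, norm_pow, norm_pow, norm_norm, norm_norm]
      refine (h3.trans h4).congr_left (fun t => ?_)
      rw [hp t]
      rfl
    have h2 := X_pow_dvd_of_isBigO p N h1
    rw [Polynomial.X_pow_dvd_iff] at h2
    have h3 := h2 d.degree hd
    by_cases hle : d.degree < Q.totalDegree + 1
    · simp only [p, Polynomial.finsetSum_coeff, Polynomial.coeff_C_mul, Polynomial.coeff_X_pow,
        mul_ite, mul_one, mul_zero] at h3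
      rw [Finset.sum_ite_eq] at h3
      simpa [hle] using h3
    · rw [homogeneousComponent_eq_zero _ _ (by omega), map_zero]
  have h2 := congrArg (fun P => coeff d P) key
  simp only [coeff_zero] at h2
  rw [coeff_homogeneousComponent, if_pos rfl] at h2
  exact h2

/-- The ideal of the point `z₀`. -/
def idealAt (z₀ : Fin n → ℂ) : Ideal (MvPolynomial (Fin n) ℂ) :=
  Ideal.span (Set.range fun i => X i - C (z₀ i))

theorem mem_idealAt_pow_of_isBigO (Q : MvPolynomial (Fin n) ℂ) (z₀ : Fin n → ℂ) (N : ℕ)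
    (h : (fun z : Fin n → ℂ => eval z Q) =O[𝓝 z₀] (fun z => ‖z - z₀‖ ^ N)) :
    Q ∈ idealAt z₀ ^ N := by
  -- translate
  let s : MvPolynomial (Fin n) ℂ →ₐ[ℂ] MvPolynomial (Fin n) ℂ := aeval (fun i => X i + C (z₀ i))
  let s' : MvPolynomial (Fin n) ℂ →ₐ[ℂ] MvPolynomial (Fin n) ℂ := aeval (fun i => X i - C (z₀ i))
  have hs's : ∀ P, s' (s P) = P := by
    intro P
    have : s'.comp s = AlgHom.id ℂ _ := by
      ext i
      simp [s, s', MvPolynomial.algebraMap_eq]
    exact congrArg (fun f => f P) this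
  have heval : ∀ z P, eval z (s P) = eval (z + z₀) P := by
    intro z P
    have h5 : (eval z).comp s.toRingHom = eval (z + z₀) := by
      refine MvPolynomial.ringHom_ext (fun c => ?_) (fun i => ?_)
      · simp [s]
      · simp [s]
    exact congrArg (fun f => f P) h5
  have h1 : (fun z : Fin n → ℂ => eval z (s Q)) =O[𝓝 0] (fun z => ‖z‖ ^ N) := by
    have h2 : Tendsto (fun z : Fin n → ℂ => z + z₀) (𝓝 0) (𝓝 z₀) := by
      have : Continuous (fun z : Fin n → ℂ => z + z₀) := by fun_prop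
      simpa using this.tendsto 0
    have h3 := h.comp_tendsto h2
    refine (h3.congr_left (fun z => ?_)).congr_right (fun z => ?_)
    · rw [heval]; rfl
    · simp
  have h2 := mem_pow_idealOfVars_of_isBigO _ _ h1
  have h3 : s' (s Q) ∈ (idealOfVars (Fin n) ℂ ^ N).map s' := Ideal.mem_map_of_mem _ h2
  rw [hs's, Ideal.map_pow] at h3
  refine Ideal.pow_right_mono ?_ _ h3
  rw [idealOfVars, Ideal.map_span, idealAt]
  refine Ideal.span_le.2 ?_
  rintro _ ⟨_, ⟨i, rfl⟩, rfl⟩
  refine Ideal.subset_span ⟨i, ?_⟩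
  simp [s']

/-- The same with a bound on the complement of a hypersurface only. -/
theorem isBigO_of_ne_zero (Q : MvPolynomial (Fin n) ℂ) {D : MvPolynomial (Fin n) ℂ} (hD : D ≠ 0)
    (z₀ : Fin n → ℂ) (N : ℕ)
    (h : (fun z : Fin n → ℂ => eval z Q) =O[𝓝 z₀ ⊓ 𝓟 {z | eval z D ≠ 0}] (fun z => ‖z - z₀‖ ^ N)) :
    (fun z : Fin n → ℂ => eval z Q) =O[𝓝 z₀] (fun z => ‖z - z₀‖ ^ N) := by
  obtain ⟨C, hC⟩ := h.bound
  rw [eventually_inf_principal] at hC
  obtain ⟨ε, hε, hball⟩ := Metric.eventually_nhds_iff_ball.1 hC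
  refine IsBigO.of_bound C ?_
  filter_upwards [ball_mem_nhds z₀ hε] with z hz
  have hdense : Dense {z : Fin n → ℂ | eval z D ≠ 0} := Groth.Agent.An.H869.Growth.dense_ne_zero D hD
  have hcl : z ∈ closure (ball z₀ ε ∩ {z : Fin n → ℂ | eval z D ≠ 0}) :=
    hdense.open_subset_closure_inter isOpen_ball hz
  have hclosed : IsClosed {z : Fin n → ℂ | ‖eval z Q‖ ≤ C * ‖‖z - z₀‖ ^ N‖} := by
    refine isClosed_le ?_ ?_
    · exact (MvPolynomial.continuous_eval Q).norm
    · fun_prop
  exact closure_minimal (fun w hw => hball w hw.1 hw.2) hclosed hcl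

theorem mem_idealAt_pow_of_isBigO' (Q : MvPolynomial (Fin n) ℂ) {D : MvPolynomial (Fin n) ℂ}
    (hD : D ≠ 0) (z₀ : Fin n → ℂ) (N : ℕ)
    (h : (fun z : Fin n → ℂ => eval z Q) =O[𝓝 z₀ ⊓ 𝓟 {z | eval z D ≠ 0}] (fun z => ‖z - z₀‖ ^ N)) :
    Q ∈ idealAt z₀ ^ N :=
  mem_idealAt_pow_of_isBigO Q z₀ N (isBigO_of_ne_zero Q hD z₀ N h)

/-- Conversely elements of the ideal power are small. -/
theorem isBigO_of_mem_idealAt_pow {Q : MvPolynomial (Fin n) ℂ} {z₀ : Fin n → ℂ} {N : ℕ}
    (h : Q ∈ idealAt z₀ ^ N) :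
    (fun z : Fin n → ℂ => eval z Q) =O[𝓝 z₀] (fun z => ‖z - z₀‖ ^ N) := by
  induction N generalizing Q with
  | zero =>
    simpa using (MvPolynomial.continuous_eval Q).continuousAt.isBigO_one ℝ
  | succ N ih =>
    rw [pow_succ] at h
    refine Submodule.mul_induction_on h (fun a ha b hb => ?_) (fun a b ha hb => ?_)
    · have h1 : (fun z : Fin n → ℂ => eval z b) =O[𝓝 z₀] (fun z => ‖z - z₀‖) := by
        refine Submodule.span_induction (p := fun b _ =>
          (fun z : Fin n → ℂ => eval z b) =O[𝓝 z₀] (fun z => ‖z - z₀‖)) ?_ ?_ ?_ ?_ hb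
        · rintro _ ⟨i, rfl⟩
          refine IsBigO.of_bound 1 (Eventually.of_forall fun z => ?_)
          simp only [map_sub, eval_X, eval_C, one_mul, norm_norm]
          exact norm_le_pi_norm (z - z₀) i
        · simpa using isBigO_zero _ _
        · intro a b _ _ ha hb
          simpa using ha.add hb
        · intro a b _ hb
          have h2 : (fun z : Fin n → ℂ => eval z a) =O[𝓝 z₀] (fun _ => (1 : ℝ)) :=
            (MvPolynomial.continuous_eval a).continuousAt.isBigO_one ℝ
          simpa using h2.mul hb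
      have h2 := (ih ha).mul h1
      simpa [pow_succ] using h2
    · simpa using ha.add hb

theorem eq_zero_of_forall_isBigO (Q : MvPolynomial (Fin n) ℂ) {D : MvPolynomial (Fin n) ℂ}
    (hD : D ≠ 0) (z₀ : Fin n → ℂ)
    (h : ∀ N : ℕ, (fun z : Fin n → ℂ => eval z Q) =O[𝓝 z₀ ⊓ 𝓟 {z | eval z D ≠ 0}]
      (fun z => ‖z - z₀‖ ^ N)) : Q = 0 := by
  have h1 : ∀ N, Q ∈ idealAt z₀ ^ N := fun N => mem_idealAt_pow_of_isBigO' Q hD z₀ N (h N)
  have h2 : idealAt z₀ ≠ ⊤ := by
    intro h3
    have h4 : idealAt z₀ ≤ RingHom.ker (eval z₀) := by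
      refine Ideal.span_le.2 ?_
      rintro _ ⟨i, rfl⟩
      simp [RingHom.mem_ker]
    rw [h3] at h4
    have h5 : (1 : MvPolynomial (Fin n) ℂ) ∈ RingHom.ker (eval z₀) := h4 Submodule.mem_top
    rw [RingHom.mem_ker, map_one] at h5
    exact one_ne_zero h5
  have h3 := Ideal.iInf_pow_eq_bot_of_isDomain (idealAt z₀) h2
  have h4 : Q ∈ ⨅ i : ℕ, idealAt z₀ ^ i := by
    rw [Ideal.mem_iInf]
    exact h1
  rw [h3] at h4
  exact h4

end Groth.Agent.An.H870.VanOrder
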