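import Groth.Agent.An.H870.Taylor
import Groth.Agent.An.H870.VanOrder
import Groth.Agent.An.H869.Interp
import Mathlib.LinearAlgebra.Lagrange

/-!
# Interpolation of locally constant functions near a point of the base

`P` monic in `ℂ[z][T]` with `u P + v P' = D`.  For a function `e` with values in `{0, 1}` on the
pairs `(z, t)` with `P_z(t) = 0`, `D(z) ≠ 0`, `z` near `z₀`, locally constant, there are polynomials
`G_N ∈ ℂ[z][T]` with `G_N(z, t) = e(z, t) D(z) + O(‖z - z₀‖ ^ N)`.
-/

set_option autoImplicit false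

noncomputable section

namespace Groth.Agent.An.H870.LocInterp

open MvPolynomial Topology Filter Asymptotics
open Groth.Agent.An.H869.LocalRoots Groth.Agent.An.H869.Interp Groth.Agent.An.H869.PolyGrowth
open Groth.Agent.An.H870.VanOrder

variable {n : ℕ}

lemma mem_roots_iff {P : Polynomial (MvPolynomial (Fin n) ℂ)} (hP : P.Monic) (z : Fin n → ℂ) (t : ℂ) :
    t ∈ (P.map (eval z)).roots.toFinset ↔ F P (z, t) = 0 := by
  rw [Multiset.mem_toFinset, Polynomial.mem_roots (hP.map _).ne_zero]
  rfl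

/-- Pairs over the étale locus converging to `z₀` in the base. -/
def L (P : Polynomial (MvPolynomial (Fin n) ℂ)) (D : MvPolynomial (Fin n) ℂ) (z₀ : Fin n → ℂ) :
    Filter ((Fin n → ℂ) × ℂ) :=
  comap Prod.fst (𝓝 z₀) ⊓ 𝓟 {q | F P q = 0 ∧ eval q.1 D ≠ 0}

lemma eventually_L {P : Polynomial (MvPolynomial (Fin n) ℂ)} {D : MvPolynomial (Fin n) ℂ}
    {z₀ : Fin n → ℂ} {p : (Fin n → ℂ) × ℂ → Prop} :
    (∀ᶠ q in L P D z₀, p q) ↔
      ∀ᶠ z in 𝓝 z₀, eval z D ≠ 0 → ∀ t, F P (z, t) = 0 → p (z, t) := by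
  rw [L, eventually_inf_principal, eventually_comap]
  refine eventually_congr (Eventually.of_forall fun z => ?_)
  constructor
  · intro h hD t ht
    exact h (z, t) rfl ⟨ht, hD⟩
  · rintro h ⟨z', t⟩ rfl ⟨h1, h2⟩
    exact h h2 t h1

lemma isBigO_L {P : Polynomial (MvPolynomial (Fin n) ℂ)} {D : MvPolynomial (Fin n) ℂ}
    {z₀ : Fin n → ℂ} {f : (Fin n → ℂ) → ℂ} {N : ℕ}
    (h : f =O[𝓝 z₀] (fun z => ‖z - z₀‖ ^ N)) :
    (fun q : (Fin n → ℂ) × ℂ => f q.1) =O[L P D z₀] (fun q => ‖q.1 - z₀‖ ^ N) :=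
  (h.comp_tendsto (tendsto_comap (f := (Prod.fst : (Fin n → ℂ) × ℂ → _)))).mono inf_le_left

lemma isBigO_one_L {P : Polynomial (MvPolynomial (Fin n) ℂ)} (hP : P.Monic)
    (D : MvPolynomial (Fin n) ℂ) (z₀ : Fin n → ℂ) (g : Polynomial (MvPolynomial (Fin n) ℂ)) :
    (fun q => F g q) =O[L P D z₀] (fun _ => (1 : ℝ)) := by
  obtain ⟨K, N, hK, hN⟩ := pg_eval_root (α := {q : (Fin n → ℂ) × ℂ // F P q = 0})
    (fun q => q.1.1) (fun q => q.1.2) P hP (fun q => q.2) g
  have h1 : ∀ᶠ z : Fin n → ℂ in 𝓝 z₀, ‖z‖ < ‖z₀‖ + 1 :=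
    continuous_norm.continuousAt.eventually (eventually_lt_nhds (lt_add_one _))
  refine IsBigO.of_bound (K * (1 + (‖z₀‖ + 1)) ^ N) ?_
  rw [eventually_L]
  filter_upwards [h1] with z hz _ t ht
  rw [norm_one, mul_one]
  calc ‖F g (z, t)‖ ≤ K * (1 + ‖z‖) ^ N := hN ⟨(z, t), ht⟩
    _ ≤ K * (1 + (‖z₀‖ + 1)) ^ N := by gcongr

lemma differentiable_eval (D : MvPolynomial (Fin n) ℂ) :
    Differentiable ℂ (fun z : Fin n → ℂ => eval z D) := by
  intro z
  have := AnalyticAt.aeval_mvPolynomial (𝕜 := ℂ) (A := ℂ) (B := ℂ) (σ := Fin n)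
    (f := fun z : Fin n → ℂ => z) (z := z)
    (fun i => (ContinuousLinearMap.proj (R := ℂ) (φ := fun _ : Fin n => ℂ) i).analyticAt z) D
  have h2 := this.differentiableAt
  simpa [MvPolynomial.coe_aeval_eq_eval] using h2

/-- A nonzero polynomial does not vanish identically on some line through `z₀`. -/
lemma exists_line (D : MvPolynomial (Fin n) ℂ) (hD : D ≠ 0) (z₀ : Fin n → ℂ) :
    ∃ v : Fin n → ℂ, ¬ ∀ᶠ t : ℂ in 𝓝 0, eval (z₀ + t • v) D = 0 := by
  obtain ⟨z₁, hz₁⟩ := (Groth.Agent.An.H869.Growth.dense_ne_zero D hD).nonempty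
  refine ⟨z₁ - z₀, fun h => ?_⟩
  have hd : Differentiable ℂ (fun t : ℂ => eval (z₀ + t • (z₁ - z₀)) D) := by
    have h2 : Differentiable ℂ (fun t : ℂ => z₀ + t • (z₁ - z₀)) := by fun_prop
    exact (differentiable_eval D).comp h2
  have ha : AnalyticOnNhd ℂ (fun t : ℂ => eval (z₀ + t • (z₁ - z₀)) D) Set.univ :=
    hd.differentiableOn.analyticOnNhd isOpen_univ
  have h3 := ha.eqOn_zero_of_preconnected_of_eventuallyEq_zero isPreconnected_univ
    (Set.mem_univ (0 : ℂ)) h (Set.mem_univ (1 : ℂ))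
  simp only [one_smul, add_sub_cancel, Pi.zero_apply] at h3
  exact hz₁ h3

/-- **Local holomorphic extension of weighted sums over the roots.** -/
theorem exists_ext_sum {P : Polynomial (MvPolynomial (Fin n) ℂ)} (hP : P.Monic)
    {D : MvPolynomial (Fin n) ℂ} (hD : D ≠ 0)
    (hsep : ∀ z, eval z D ≠ 0 → (P.map (eval z)).Separable) (z₀ : Fin n → ℂ)
    (e : (Fin n → ℂ) × ℂ → ℂ)
    (he01 : ∀ᶠ q in L P D z₀, e q = 0 ∨ e q = 1)
    (hloc : ∀ᶠ q₀ in L P D z₀, ∀ᶠ q in 𝓝 q₀, F P q = 0 → e q = e q₀)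
    (g : Polynomial (MvPolynomial (Fin n) ℂ)) :
    ∃ (W : Set (Fin n → ℂ)) (H : (Fin n → ℂ) → ℂ), IsOpen W ∧ z₀ ∈ W ∧ DifferentiableOn ℂ H W ∧
      ∀ z ∈ W, eval z D ≠ 0 →
        ∑ t ∈ (P.map (eval z)).roots.toFinset, e (z, t) * F g (z, t) = H z := by
  classical
  obtain ⟨K, hK⟩ := (isBigO_one_L hP D z₀ g).bound
  have hall := he01.and (hloc.and hK)
  rw [eventually_L] at hall
  obtain ⟨ε, hε, hball⟩ := Metric.eventually_nhds_iff_ball.1 hall
  obtain ⟨v, hv⟩ := exists_line D hD z₀
  obtain ⟨W, H, hW, hz, hWU, hH, -, hHe⟩ := RExt.exists_extension (V := Fin n → ℂ)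
    (U := Metric.ball z₀ ε) Metric.isOpen_ball (Metric.mem_ball_self hε)
    (D := fun z => eval z D) (differentiable_eval D).differentiableOn (v := v) hv
    (f := fun z => ∑ t ∈ (P.map (eval z)).roots.toFinset, e (z, t) * F g (z, t))
    (fun z hz hDz => by
      refine differentiableAt_sum_roots P g hP z ?_ e ?_
      · filter_upwards [(Groth.Agent.An.H869.Growth.isOpen_ne_zero D).mem_nhds hDz] with w hw using hsep w hw
      · intro t ht
        exact (hball z hz hDz t ht).2.1)
    (M := P.natDegree * |K|) (fun z hz hDz => by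
      have hcard : (P.map (eval z)).roots.toFinset.card ≤ P.natDegree := by
        refine (Multiset.toFinset_card_le _).trans ?_
        exact (Polynomial.card_roots' _).trans Polynomial.natDegree_map_le
      calc ‖∑ t ∈ (P.map (eval z)).roots.toFinset, e (z, t) * F g (z, t)‖
          ≤ ∑ t ∈ (P.map (eval z)).roots.toFinset, ‖e (z, t) * F g (z, t)‖ := norm_sum_le _ _
        _ ≤ ∑ t ∈ (P.map (eval z)).roots.toFinset, |K| := by
            refine Finset.sum_le_sum (fun t ht => ?_)
            have hFt : F P (z, t) = 0 := (mem_roots_iff hP z t).1 ht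
            obtain ⟨h1, -, h2⟩ := hball z hz hDz t hFt
            rw [norm_one, mul_one] at h2
            rcases h1 with h | h
            · rw [h, zero_mul, norm_zero]; positivity
            · rw [h, one_mul]; exact h2.trans (le_abs_self K)
        _ = (P.map (eval z)).roots.toFinset.card * |K| := by
            rw [Finset.sum_const, nsmul_eq_mul]
        _ ≤ P.natDegree * |K| := by gcongr)
  exact ⟨W, H, hW, hz, hH, fun z hz hDz => (hHe z hz hDz).symm⟩

/-- The interpolation identity. -/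
theorem interp_eval {P u v : Polynomial (MvPolynomial (Fin n) ℂ)} {D : MvPolynomial (Fin n) ℂ}
    (hP : P.Monic) (hbez : u * P + v * Polynomial.derivative P = Polynomial.C D)
    (z : Fin n → ℂ) (w : ℂ → ℂ) (t0 : ℂ) (ht0 : F P (z, t0) = 0) :
    ∑ k ∈ Finset.range (P.natDegree + 1),
      (∑ t ∈ (P.map (eval z)).roots.toFinset, w t * F (v * gk P k) (z, t)) * t0 ^ k =
      w t0 * eval z D := by
  classical
  have h3 : ∀ t, Polynomial.eval t0 ((P.map (eval z)) /ₘ (Polynomial.X - Polynomial.C t)) =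
      ∑ k ∈ Finset.range (P.natDegree + 1), F (gk P k) (z, t) * t0 ^ k := by
    intro t
    rw [Polynomial.eval_eq_sum_range' (n := P.natDegree + 1)]
    · refine Finset.sum_congr rfl (fun k _ => ?_)
      rw [F_gk P hP]
    · rw [Polynomial.natDegree_divByMonic _ (Polynomial.monic_X_sub_C t),
        Polynomial.natDegree_X_sub_C, hP.natDegree_map]
      omega
  have h1 : ∑ k ∈ Finset.range (P.natDegree + 1),
      (∑ t ∈ (P.map (eval z)).roots.toFinset, w t * F (v * gk P k) (z, t)) * t0 ^ k =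
      ∑ t ∈ (P.map (eval z)).roots.toFinset, w t * F v (z, t) *
        Polynomial.eval t0 ((P.map (eval z)) /ₘ (Polynomial.X - Polynomial.C t)) := by
    simp only [h3, Finset.mul_sum, Finset.sum_mul]
    rw [Finset.sum_comm]
    refine Finset.sum_congr rfl (fun t _ => Finset.sum_congr rfl (fun k _ => ?_))
    rw [F_mul]
    ring
  rw [h1, Finset.sum_eq_single t0]
  · -- the value of the quotient at the root is the derivative
    have hroot : (P.map (eval z)).IsRoot t0 := ht0
    have h4 := Polynomial.mul_divByMonic_eq_iff_isRoot.2 hroot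
    have h5 := congrArg (fun p => Polynomial.eval t0 (Polynomial.derivative p)) h4
    simp only [Polynomial.derivative_mul, Polynomial.derivative_sub, Polynomial.derivative_X,
      Polynomial.derivative_C, sub_zero, one_mul, Polynomial.eval_add, Polynomial.eval_mul,
      Polynomial.eval_sub, Polynomial.eval_X, Polynomial.eval_C, sub_self, zero_mul, add_zero] at h5
    rw [h5]
    have h6 := congrArg (fun p => F p (z, t0)) hbez
    simp only [F, Polynomial.map_add, Polynomial.map_mul, Polynomial.eval_add, Polynomial.eval_mul,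
      Polynomial.map_C, Polynomial.eval_C, ← Polynomial.derivative_map] at h6
    have h7 : Polynomial.eval t0 (P.map (eval z)) = 0 := ht0
    rw [h7, mul_zero, zero_add] at h6
    rw [mul_assoc]
    simp only [F]
    rw [h6]
  · intro t ht hne
    have hroot : (P.map (eval z)).IsRoot t := (mem_roots_iff hP z t).1 ht
    have h4 := Polynomial.mul_divByMonic_eq_iff_isRoot.2 hroot
    have h5 := congrArg (Polynomial.eval t0) h4
    have h7 : Polynomial.eval t0 (P.map (eval z)) = 0 := ht0
    rw [Polynomial.eval_mul, h7] at h5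
    rcases mul_eq_zero.1 h5 with h8 | h8
    · simp only [Polynomial.eval_sub, Polynomial.eval_X, Polynomial.eval_C] at h8
      exact absurd (sub_eq_zero.1 h8).symm hne
    · rw [h8, mul_zero]
  · intro h
    exact absurd ((mem_roots_iff hP z t0).2 ht0) h

lemma F_congr_modByMonic {P : Polynomial (MvPolynomial (Fin n) ℂ)} (hP : P.Monic)
    (G : Polynomial (MvPolynomial (Fin n) ℂ)) {q : (Fin n → ℂ) × ℂ} (hq : F P q = 0) :
    F (G %ₘ P) q = F G q := by
  have h := Polynomial.modByMonic_add_div G P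
  have h1 : F G q = F (G %ₘ P) q + F (P * (G /ₘ P)) q := by
    conv_lhs => rw [← h]
    simp [F]
  rw [h1, F_mul, hq, zero_mul, add_zero]

lemma gk_natDegree (P : Polynomial (MvPolynomial (Fin n) ℂ)) : gk P P.natDegree = 0 := by
  rw [gk, Finset.Icc_eq_empty (by omega), Finset.sum_empty]

/-- The coefficients of a small function are small. -/
theorem coeff_mem {P u v : Polynomial (MvPolynomial (Fin n) ℂ)} (hP : P.Monic)
    {D : MvPolynomial (Fin n) ℂ} (hD : D ≠ 0)
    (hbez : u * P + v * Polynomial.derivative P = Polynomial.C D)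
    (z₀ : Fin n → ℂ) (N : ℕ) (G : Polynomial (MvPolynomial (Fin n) ℂ))
    (hG : (fun q => F G q) =O[L P D z₀] (fun q => ‖q.1 - z₀‖ ^ N)) (k : ℕ) :
    D * (G %ₘ P).coeff k ∈ idealAt z₀ ^ N := by
  classical
  have hsep : ∀ z, eval z D ≠ 0 → (P.map (eval z)).Separable := separable_of_bezout hbez
  by_cases hk : k < P.natDegree
  swap
  · have h0 : (G %ₘ P).coeff k = 0 := by
      by_cases hP1 : P = 1
      · rw [hP1, Polynomial.modByMonic_one, Polynomial.coeff_zero]
      · exact Polynomial.coeff_eq_zero_of_natDegree_lt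
          ((Polynomial.natDegree_modByMonic_lt G hP hP1).trans_le (by omega))
    rw [h0, mul_zero]
    exact zero_mem _
  refine mem_idealAt_pow_of_isBigO' _ hD z₀ N ?_
  -- the interpolation formula for the coefficients
  have hcoef : ∀ z, eval z D ≠ 0 → eval z (D * (G %ₘ P).coeff k) =
      ∑ t ∈ (P.map (eval z)).roots.toFinset, F G (z, t) * F (v * gk P k) (z, t) := by
    intro z hz
    have hcard : (P.map (eval z)).roots.toFinset.card = P.natDegree := by
      rw [Multiset.toFinset_card_of_nodup (Polynomial.nodup_roots (hsep z hz)),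
        ← (IsAlgClosed.splits (P.map (eval z))).natDegree_eq_card_roots, hP.natDegree_map]
    let c : ℕ → ℂ := fun k => ∑ t ∈ (P.map (eval z)).roots.toFinset,
      F G (z, t) * F (v * gk P k) (z, t)
    let Lz : Polynomial ℂ := ∑ k ∈ Finset.range P.natDegree, Polynomial.C (c k) * Polynomial.X ^ k
    have hLz : Lz = Polynomial.C (eval z D) * (G %ₘ P).map (eval z) := by
      apply Polynomial.eq_of_degrees_lt_of_eval_finset_eq (P.map (eval z)).roots.toFinset
      · rw [hcard]
        refine (Polynomial.degree_sum_le _ _).trans_lt ?_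
        rw [Finset.sup_lt_iff (WithBot.bot_lt_coe _)]
        intro j hj
        refine (Polynomial.degree_C_mul_X_pow_le _ _).trans_lt ?_
        exact_mod_cast Finset.mem_range.1 hj
      · rw [hcard]
        rw [Polynomial.degree_C_mul hz]
        refine Polynomial.degree_map_le.trans_lt ?_
        have := Polynomial.degree_modByMonic_lt G hP
        rwa [Polynomial.degree_eq_natDegree hP.ne_zero] at this
      · intro t ht
        have hFt : F P (z, t) = 0 := (mem_roots_iff hP z t).1 ht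
        have h1 := interp_eval hP hbez z (fun t => F G (z, t)) t hFt
        rw [Finset.sum_range_succ, gk_natDegree, mul_zero] at h1
        have h0 : F (0 : Polynomial (MvPolynomial (Fin n) ℂ)) = fun _ => 0 := by
          ext q; simp [F]
        simp only [h0, mul_zero, Finset.sum_const_zero, zero_mul, add_zero] at h1
        have h2 : Polynomial.eval t Lz = ∑ k ∈ Finset.range P.natDegree, c k * t ^ k := by
          simp only [Lz, Polynomial.eval_finsetSum, Polynomial.eval_mul, Polynomial.eval_C,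
            Polynomial.eval_pow, Polynomial.eval_X]
        rw [h2, h1, Polynomial.eval_mul, Polynomial.eval_C, ← F_congr_modByMonic hP G hFt, mul_comm]
        rfl
    have h3 := congrArg (fun p => Polynomial.coeff p k) hLz
    simp only [Lz, Polynomial.finsetSum_coeff, Polynomial.coeff_C_mul, Polynomial.coeff_X_pow,
      mul_ite, mul_one, mul_zero, Polynomial.coeff_map] at h3
    rw [Finset.sum_ite_eq, if_pos (Finset.mem_range.2 hk)] at h3
    rw [map_mul, ← h3]
  obtain ⟨C, hC⟩ := hG.bound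
  obtain ⟨K, hK⟩ := (isBigO_one_L hP D z₀ (v * gk P k)).bound
  have hall := hC.and hK
  rw [eventually_L] at hall
  refine IsBigO.of_bound (P.natDegree * (|C| * |K|)) ?_
  rw [eventually_inf_principal]
  filter_upwards [hall] with z hz hDz
  rw [hcoef z hDz]
  have hcard : (P.map (eval z)).roots.toFinset.card ≤ P.natDegree := by
    refine (Multiset.toFinset_card_le _).trans ?_
    exact (Polynomial.card_roots' _).trans Polynomial.natDegree_map_le
  calc ‖∑ t ∈ (P.map (eval z)).roots.toFinset, F G (z, t) * F (v * gk P k) (z, t)‖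
      ≤ ∑ t ∈ (P.map (eval z)).roots.toFinset, ‖F G (z, t) * F (v * gk P k) (z, t)‖ :=
        norm_sum_le _ _
    _ ≤ ∑ t ∈ (P.map (eval z)).roots.toFinset, (|C| * ‖‖z - z₀‖ ^ N‖) * |K| := by
        refine Finset.sum_le_sum (fun t ht => ?_)
        have hFt : F P (z, t) = 0 := (mem_roots_iff hP z t).1 ht
        obtain ⟨h1, h2⟩ := hz hDz t hFt
        rw [norm_one, mul_one] at h2
        rw [norm_mul]
        refine mul_le_mul ?_ (h2.trans (le_abs_self K)) (norm_nonneg _) (by positivity)
        exact h1.trans (mul_le_mul_of_nonneg_right (le_abs_self C) (norm_nonneg _))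
    _ = (P.map (eval z)).roots.toFinset.card * ((|C| * ‖‖z - z₀‖ ^ N‖) * |K|) := by
        rw [Finset.sum_const, nsmul_eq_mul]
    _ ≤ P.natDegree * ((|C| * ‖‖z - z₀‖ ^ N‖) * |K|) := by gcongr
    _ = P.natDegree * (|C| * |K|) * ‖‖z - z₀‖ ^ N‖ := by ring

section approx

variable {P u v : Polynomial (MvPolynomial (Fin n) ℂ)} (hP : P.Monic)
    {D : MvPolynomial (Fin n) ℂ} (hD : D ≠ 0)
    (hbez : u * P + v * Polynomial.derivative P = Polynomial.C D) (z₀ : Fin n → ℂ)
    (e : (Fin n → ℂ) × ℂ → ℂ)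
    (he01 : ∀ᶠ q in L P D z₀, e q = 0 ∨ e q = 1)
    (hloc : ∀ᶠ q₀ in L P D z₀, ∀ᶠ q in 𝓝 q₀, F P q = 0 → e q = e q₀)

include hP hD hbez he01 hloc

/-- Approximation of `e D` by polynomials to any order. -/
theorem exists_approx : ∃ G : ℕ → Polynomial (MvPolynomial (Fin n) ℂ),
    (∀ N, (fun q => F (G N) q - e q * eval q.1 D) =O[L P D z₀] (fun q => ‖q.1 - z₀‖ ^ N)) ∧
    (∀ N k, (G (N + 1) - G N).coeff k ∈ idealAt z₀ ^ N) := by
  classical
  have hsep : ∀ z, eval z D ≠ 0 → (P.map (eval z)).Separable := separable_of_bezout hbez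
  choose W H hW hz hH hsum using fun k : ℕ =>
    exists_ext_sum hP hD hsep z₀ e he01 hloc (v * gk P k)
  choose Q hQ using fun (N k : ℕ) => Taylor.exists_taylor N (hW k) (hz k) (hH k)
  refine ⟨fun N => ∑ k ∈ Finset.range (P.natDegree + 1), Polynomial.C (Q N k) * Polynomial.X ^ k,
    fun N => ?_, fun N k => ?_⟩
  · have h1 : (fun q : (Fin n → ℂ) × ℂ => ∑ k ∈ Finset.range (P.natDegree + 1),
        (eval q.1 (Q N k) - H k q.1) * q.2 ^ k) =O[L P D z₀] (fun q => ‖q.1 - z₀‖ ^ N) := by
      refine IsBigO.fun_sum (fun k _ => ?_)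
      have h2 : (fun q : (Fin n → ℂ) × ℂ => eval q.1 (Q N k) - H k q.1) =O[L P D z₀]
          (fun q => ‖q.1 - z₀‖ ^ N) := by
        have := isBigO_L (P := P) (D := D) (hQ N k).neg_left
        refine this.congr_left (fun q => ?_)
        ring
      have h3 := isBigO_one_L hP D z₀ (Polynomial.X ^ k)
      have h4 := h2.mul h3
      refine (h4.congr_left (fun q => ?_)).congr_right (fun q => by rw [mul_one])
      simp [F]
    refine h1.congr' ?_ EventuallyEq.rfl
    rw [EventuallyEq, eventually_L]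
    have hW' : ∀ᶠ z in 𝓝 z₀, ∀ k ∈ Finset.range (P.natDegree + 1), z ∈ W k := by
      rw [Filter.eventually_all_finset]
      exact fun k _ => (hW k).mem_nhds (hz k)
    filter_upwards [hW'] with z hz' hDz t ht
    have h5 := interp_eval hP hbez z (fun t => e (z, t)) t ht
    simp only [sub_mul, Finset.sum_sub_distrib]
    congr 1
    · simp only [F, Polynomial.map_sum, Polynomial.eval_finsetSum, Polynomial.map_mul,
        Polynomial.map_C, Polynomial.map_pow, Polynomial.map_X, Polynomial.eval_mul,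
        Polynomial.eval_C, Polynomial.eval_pow, Polynomial.eval_X]
    · rw [← h5]
      refine Finset.sum_congr rfl (fun k hk => ?_)
      rw [hsum k z (hz' k hk) hDz]
  · have h1 : ((∑ k ∈ Finset.range (P.natDegree + 1), Polynomial.C (Q (N + 1) k) * Polynomial.X ^ k) -
        ∑ k ∈ Finset.range (P.natDegree + 1), Polynomial.C (Q N k) * Polynomial.X ^ k).coeff k =
        if k ∈ Finset.range (P.natDegree + 1) then Q (N + 1) k - Q N k else 0 := by
      rw [← Finset.sum_sub_distrib, Polynomial.finsetSum_coeff]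
      simp only [Polynomial.coeff_sub, Polynomial.coeff_C_mul, Polynomial.coeff_X_pow,
        mul_ite, mul_one, mul_zero]
      rw [Finset.sum_sub_distrib, Finset.sum_ite_eq, Finset.sum_ite_eq]
      split_ifs <;> simp
    rw [h1]
    split_ifs
    · refine mem_idealAt_pow_of_isBigO _ z₀ N ?_
      have h2 : (fun z => H k z - eval z (Q (N + 1) k)) =O[𝓝 z₀] (fun z => ‖z - z₀‖ ^ N) := by
        refine (hQ (N + 1) k).trans ?_
        refine IsBigO.of_bound 1 ?_
        have h3 : ∀ᶠ z in 𝓝 z₀, ‖z - z₀‖ < 1 := by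
          filter_upwards [Metric.ball_mem_nhds z₀ one_pos] with z hz
          rwa [Metric.mem_ball, dist_eq_norm] at hz
        filter_upwards [h3] with z hz
        rw [norm_pow, norm_norm, norm_pow, norm_norm, one_mul, pow_succ]
        exact mul_le_of_le_one_right (by positivity) hz.le
      refine ((hQ N k).sub h2).congr_left (fun z => ?_)
      rw [map_sub]
      ring
    · exact zero_mem _

/-- If `D` is small to all orders at the pairs with `e = 1`, then `e = 0` near `z₀`. -/
theorem eventually_eq_zero (hsmall : ∀ M : ℕ, ∃ C : ℝ, ∀ᶠ q in L P D z₀, e q = 1 →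
    ‖eval q.1 D‖ ^ 2 ≤ C * ‖q.1 - z₀‖ ^ M) : ∀ᶠ q in L P D z₀, e q = 0 := by
  classical
  have hsep : ∀ z, eval z D ≠ 0 → (P.map (eval z)).Separable := separable_of_bezout hbez
  obtain ⟨W, H, hW, hz, hH, hsum⟩ := exists_ext_sum hP hD hsep z₀ e he01 hloc 1
  have he01' := eventually_L.1 he01
  obtain ⟨ε, hε, hball⟩ := Metric.eventually_nhds_iff_ball.1
    (he01'.and (Filter.eventually_of_mem (hW.mem_nhds hz) (fun _ h => h)))
  -- the values of `H` at `D ≠ 0`
  have hval : ∀ z ∈ Metric.ball z₀ ε, eval z D ≠ 0 →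
      H z = (((P.map (eval z)).roots.toFinset.filter (fun t => e (z, t) = 1)).card : ℂ) := by
    intro z hz' hDz
    rw [← hsum z (hball z hz').2 hDz, Finset.card_filter, Nat.cast_sum]
    refine Finset.sum_congr rfl (fun t ht => ?_)
    have hFt : F P (z, t) = 0 := (mem_roots_iff hP z t).1 ht
    have hF1 : F (1 : Polynomial (MvPolynomial (Fin n) ℂ)) (z, t) = 1 := by simp [F]
    rw [hF1, mul_one]
    rcases (hball z hz').1 hDz t hFt with h | h
    · rw [h]; simp
    · rw [h]; simp
  -- `H` takes values in the closed set of integers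
  have hdense : Dense {z : Fin n → ℂ | eval z D ≠ 0} := Groth.Agent.An.H869.Growth.dense_ne_zero D hD
  let ι : ℤ → ℂ := fun m => ((m : ℝ) : ℂ)
  have hι : Topology.IsClosedEmbedding ι :=
    Complex.isometry_ofReal.isClosedEmbedding.comp Int.isClosedEmbedding_coe_real
  have hcont : ContinuousOn H (Metric.ball z₀ ε) := fun z hz' =>
    (hH.differentiableAt (hW.mem_nhds (hball z hz').2)).continuousAt.continuousWithinAt
  have hmaps : Set.MapsTo H (Metric.ball z₀ ε) (Set.range ι) := by
    intro z hz'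
    have hcl : z ∈ closure (Metric.ball z₀ ε ∩ {z : Fin n → ℂ | eval z D ≠ 0}) :=
      hdense.open_subset_closure_inter Metric.isOpen_ball hz'
    have h1 : ContinuousWithinAt H (Metric.ball z₀ ε ∩ {z : Fin n → ℂ | eval z D ≠ 0}) z :=
      (hcont z hz').mono Set.inter_subset_left
    have h2 : H z ∈ closure (H '' (Metric.ball z₀ ε ∩ {z : Fin n → ℂ | eval z D ≠ 0})) :=
      h1.mem_closure_image hcl
    refine closure_minimal ?_ hι.isClosed_range h2
    rintro _ ⟨w, ⟨hw1, hw2⟩, rfl⟩
    refine ⟨(((P.map (eval w)).roots.toFinset.filter (fun t => e (w, t) = 1)).card : ℤ), ?_⟩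
    rw [hval w hw1 hw2]
    simp [ι]
  have hdisc : IsDiscrete (Set.range ι) :=
    ⟨hι.isEmbedding.toHomeomorph.symm.isEmbedding.discreteTopology⟩
  have hconst : ∀ z ∈ Metric.ball z₀ ε, ∀ w ∈ Metric.ball z₀ ε, H z = H w := fun z hz w hw =>
    (convex_ball z₀ ε).isPreconnected.constant_of_mapsTo hdisc hcont hmaps hz hw
  by_cases hzero : ∃ z ∈ Metric.ball z₀ ε, eval z D ≠ 0 ∧ H z = 0
  · obtain ⟨w, hw, -, hw0⟩ := hzero
    rw [eventually_L]
    filter_upwards [Metric.ball_mem_nhds z₀ hε] with z hz' hDz t ht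
    have h1 : H z = 0 := (hconst z hz' w hw).trans hw0
    rw [hval z hz' hDz, Nat.cast_eq_zero, Finset.card_eq_zero, Finset.filter_eq_empty_iff] at h1
    exact ((hball z hz').1 hDz t ht).resolve_right (h1 ((mem_roots_iff hP z t).2 ht))
  · exfalso
    push Not at hzero
    have h1 : ∀ N : ℕ, (fun z : Fin n → ℂ => eval z (D ^ 2)) =O[𝓝 z₀ ⊓ 𝓟 {z | eval z D ≠ 0}]
        (fun z => ‖z - z₀‖ ^ N) := by
      intro N
      obtain ⟨C, hC⟩ := hsmall N
      rw [eventually_L] at hC
      refine IsBigO.of_bound C ?_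
      rw [eventually_inf_principal]
      filter_upwards [hC, Metric.ball_mem_nhds z₀ hε] with z hz1 hz2 hDz
      have h2 := hzero z hz2 hDz
      rw [hval z hz2 hDz, Ne, Nat.cast_eq_zero, Finset.card_eq_zero, ← Ne,
        ← Finset.nonempty_iff_ne_empty] at h2
      obtain ⟨t, ht⟩ := h2
      rw [Finset.mem_filter] at ht
      have h3 := hz1 hDz t ((mem_roots_iff hP z t).1 ht.1) ht.2
      rw [map_pow, norm_pow, norm_pow, norm_norm]
      exact h3
    have h2 := eq_zero_of_forall_isBigO (D ^ 2) hD z₀ h1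
    exact hD (pow_eq_zero_iff (two_ne_zero)|>.1 h2)

end approx

end Groth.Agent.An.H870.LocInterp
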