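import Groth.Agent.An.H866.NormRing
import Mathlib.RingTheory.AdjoinRoot
import Mathlib.RingTheory.Polynomial.UniqueFactorization
import Mathlib.RingTheory.Algebraic.Integral
import Mathlib.Algebra.Polynomial.Monic

/-!
# Normal models of the components of a monic polynomial over `ℂ[x₁, ..., xₙ]`
-/

set_option autoImplicit false

noncomputable section

namespace Groth.Agent.An.H870.Model

open MvPolynomial

/-- Factorization of a monic polynomial into monic primes. -/
theorem exists_factors {R : Type*} [CommRing R] [IsDomain R] [UniqueFactorizationMonoid R]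
    (f : Polynomial R) (hf : f.Monic) :
    ∃ l : List (Polynomial R), (∀ g ∈ l, g.Monic ∧ Prime g) ∧ f = l.prod := by
  induction hd : f.natDegree using Nat.strong_induction_on generalizing f with
  | _ d ih =>
    by_cases h1 : f = 1
    · exact ⟨[], by simp, by simpa using h1⟩
    by_cases hirr : Irreducible f
    · exact ⟨[f], by simpa using ⟨hf, hirr.prime⟩, by simp⟩
    rw [hf.irreducible_iff_natDegree] at hirr
    push Not at hirr
    obtain ⟨a, b, ha, hb, hab, ha1, hb1⟩ := hirr h1
    have hdeg : f.natDegree = a.natDegree + b.natDegree := by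
      rw [← hab, ha.natDegree_mul hb]
    have hb2 : b.natDegree < d := by omega
    have ha2 : a.natDegree < d := by omega
    obtain ⟨l1, hl1, hf1⟩ := ih _ ha2 a ha rfl
    obtain ⟨l2, hl2, hf2⟩ := ih _ hb2 b hb rfl
    refine ⟨l1 ++ l2, fun g hg => ?_, ?_⟩
    · rcases List.mem_append.1 hg with hg | hg
      · exact hl1 g hg
      · exact hl2 g hg
    · rw [List.prod_append, ← hf1, ← hf2, hab]

/-- A normal model of the hypersurface `f = 0`, finite over affine space. -/
structure NModel {n : ℕ} (f : Polynomial (MvPolynomial (Fin n) ℂ)) where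
  B : Type
  [commRing : CommRing B]
  [isDomain : IsDomain B]
  [isIntegrallyClosed : IsIntegrallyClosed B]
  [algebraC : Algebra ℂ B]
  [algebra : Algebra (MvPolynomial (Fin n) ℂ) B]
  [isScalarTower : IsScalarTower ℂ (MvPolynomial (Fin n) ℂ) B]
  [finite : Module.Finite (MvPolynomial (Fin n) ℂ) B]
  [faithful : FaithfulSMul (MvPolynomial (Fin n) ℂ) B]
  [finiteType : Algebra.FiniteType ℂ B]
  τ : B
  g : MvPolynomial (Fin n) ℂ
  h : B → Polynomial (MvPolynomial (Fin n) ℂ)
  g_ne : g ≠ 0
  aeval_τ : Polynomial.aeval τ f = 0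
  dvd : ∀ p : Polynomial (MvPolynomial (Fin n) ℂ), Polynomial.aeval τ p = 0 → f ∣ p
  hh : ∀ b, algebraMap (MvPolynomial (Fin n) ℂ) B g * b = Polynomial.aeval τ (h b)

attribute [instance] NModel.commRing NModel.isDomain NModel.isIntegrallyClosed NModel.algebraC
  NModel.algebra NModel.isScalarTower NModel.finite NModel.faithful NModel.finiteType

/-- Existence of common denominators. -/
theorem exists_denominator {R B : Type*} [CommRing R] [IsDomain R] [CommRing B] [Algebra R B]
    [Module.Finite R B] (τ : B)
    (h : ∀ b : B, ∃ g : R, g ≠ 0 ∧ ∃ p : Polynomial R, algebraMap R B g * b = Polynomial.aeval τ p) :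
    ∃ g : R, g ≠ 0 ∧ ∀ b : B, ∃ p : Polynomial R, algebraMap R B g * b = Polynomial.aeval τ p := by
  classical
  choose d hd h hh using h
  obtain ⟨s, hs⟩ := (Module.Finite.fg_top : (⊤ : Submodule R B).FG)
  refine ⟨∏ x ∈ s, d x, Finset.prod_ne_zero_iff.2 fun x _ => hd x, fun x => ?_⟩
  have hx : x ∈ Submodule.span R (s : Set B) := by rw [hs]; trivial
  induction hx using Submodule.span_induction with
  | mem y hy =>
    refine ⟨Polynomial.C (∏ x ∈ s.erase y, d x) * h y, ?_⟩
    rw [map_mul, Polynomial.aeval_C, ← hh y, ← mul_assoc, ← map_mul, Finset.prod_erase_mul _ _ hy]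
  | zero => exact ⟨0, by simp⟩
  | add y z _ _ hy hz =>
    obtain ⟨h1, hh1⟩ := hy
    obtain ⟨h2, hh2⟩ := hz
    exact ⟨h1 + h2, by rw [mul_add, hh1, hh2, map_add]⟩
  | smul r y _ hy =>
    obtain ⟨h1, hh1⟩ := hy
    exact ⟨Polynomial.C r * h1, by
      rw [map_mul, Polynomial.aeval_C, ← hh1, Algebra.smul_def]; ring⟩

theorem nonempty_model {n : ℕ} (f : Polynomial (MvPolynomial (Fin n) ℂ)) (hf : f.Monic)
    (hp : Prime f) : Nonempty (NModel f) := by
  let R := MvPolynomial (Fin n) ℂ
  let S := AdjoinRoot f
  have hdS : IsDomain S := AdjoinRoot.isDomain_of_prime hp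
  have hfinS : Module.Finite R S := hf.finite_adjoinRoot
  have hft : Algebra.FiniteType ℂ S := Algebra.FiniteType.trans (S := R) inferInstance inferInstance
  have hdvd : ∀ p : Polynomial R, Polynomial.aeval (AdjoinRoot.root f) p = 0 → f ∣ p := by
    intro p hp'
    rwa [AdjoinRoot.aeval_eq, AdjoinRoot.mk_eq_zero] at hp'
  have hdeg : f.natDegree ≠ 0 := by
    intro h0
    have : f = 1 := hf.natDegree_eq_zero.1 h0
    exact hp.not_isUnit (this ▸ isUnit_one)
  have hinjS : Function.Injective (algebraMap R S) := by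
    rw [injective_iff_map_eq_zero]
    intro r hr
    by_contra hr0
    have h1 : f ∣ Polynomial.C r := hdvd _ (by rw [Polynomial.aeval_C]; exact hr)
    refine hf.not_dvd_of_natDegree_lt (Polynomial.C_ne_zero.2 hr0) ?_ h1
    rw [Polynomial.natDegree_C]
    omega
  let L := FractionRing S
  let B := integralClosure S L
  have hfinB : Module.Finite S B := H866.NormRing.finite_integralClosure S
  have hfinRB : Module.Finite R B := Module.Finite.trans S B
  have hSB : Function.Injective (algebraMap S B) := FaithfulSMul.algebraMap_injective _ _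
  have hinjB : Function.Injective (algebraMap R B) := by
    rw [IsScalarTower.algebraMap_eq R S B]
    exact hSB.comp hinjS
  have hfaith : FaithfulSMul R B := (faithfulSMul_iff_algebraMap_injective _ _).2 hinjB
  have hIC : IsIntegrallyClosed B := integralClosure.isIntegrallyClosedOfFiniteExtension L
  have hftB : Algebra.FiniteType ℂ B :=
    Algebra.FiniteType.trans (S := R) inferInstance inferInstance
  let τ : B := algebraMap S B (AdjoinRoot.root f)
  have hτ : ∀ p : Polynomial R, Polynomial.aeval τ p =
      algebraMap S B (Polynomial.aeval (AdjoinRoot.root f) p) := fun p =>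
    Polynomial.aeval_algebraMap_apply B (AdjoinRoot.root f) p
  obtain ⟨g, hg, hgB⟩ := exists_denominator (R := R) (B := B) τ (by
    intro b
    -- `b = s / s'`
    obtain ⟨s, s', hs', hb⟩ := IsFractionRing.div_surjective (A := S) (b : L)
    have hs0 : s' ≠ 0 := nonZeroDivisors.ne_zero hs'
    have halg : IsAlgebraic R s' := Algebra.IsAlgebraic.isAlgebraic s'
    obtain ⟨r, hr, c, hc⟩ := halg.exists_nonzero_dvd hs'
    obtain ⟨p, hp'⟩ := AdjoinRoot.mk_surjective (g := f) (c * s)
    refine ⟨r, hr, p, ?_⟩
    rw [hτ, AdjoinRoot.aeval_eq, hp']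
    apply Subtype.ext
    have h1 : ((algebraMap R B r : B) : L) = algebraMap S L s' * algebraMap S L c := by
      rw [← map_mul, ← hc]
      rfl
    change ((algebraMap R B r : B) : L) * (b : L) = algebraMap S L (c * s)
    rw [h1, ← hb, map_mul]
    have hs'L : algebraMap S L s' ≠ 0 := by
      rw [Ne, IsFractionRing.to_map_eq_zero_iff]
      exact hs0
    rw [mul_comm (algebraMap S L s'), mul_assoc, mul_div_cancel₀ _ hs'L])
  choose h hh using hgB
  exact ⟨{ B := B, τ := τ, g := g, h := h, g_ne := hg
           aeval_τ := by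
             rw [hτ, AdjoinRoot.aeval_eq, AdjoinRoot.mk_self, map_zero]
           dvd := fun p hp' => hdvd p (hSB (by rw [← hτ, hp', map_zero]))
           hh := hh }⟩

end Groth.Agent.An.H870.Model
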