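import Mathlib.Analysis.Calculus.ParametricIntegral
import Mathlib.Analysis.Complex.Schwarz
import Mathlib.Analysis.Complex.MeanValue
import Mathlib.Analysis.Complex.RemovableSingularity
import Mathlib.Analysis.Normed.Module.FiniteDimension

/-!
# Holomorphic dependence of an integral on a parameter in a finite-dimensional complex space
-/

set_option autoImplicit false

open MeasureTheory Metric Set Filter Topology

noncomputable section

namespace Groth.Agent.An.H870.ParamInt

variable {V : Type*} [NormedAddCommGroup V] [NormedSpace ℂ V]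

/-- A crude Cauchy estimate for the Fréchet derivative of a bounded holomorphic function. -/
theorem norm_fderiv_le {f : V → ℂ} {c : V} {R M : ℝ} (hR : 0 < R)
    (hf : DifferentiableOn ℂ f (ball c R)) (hM : ∀ z ∈ ball c R, ‖f z‖ ≤ M) :
    ‖fderiv ℂ f c‖ ≤ 2 * M / R := by
  refine Complex.norm_fderiv_le_div_of_mapsTo_ball hf (fun z hz => ?_) hR
  rw [mem_closedBall, dist_eq_norm]
  calc ‖f z - f c‖ ≤ ‖f z‖ + ‖f c‖ := norm_sub_le _ _
    _ ≤ M + M := add_le_add (hM z hz) (hM c (mem_ball_self hR))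
    _ = 2 * M := by ring

theorem stronglyMeasurable_fderiv_param [FiniteDimensional ℂ V] {Φ : V → ℝ → ℂ} {W : Set V}
    (hW : IsOpen W) (hc : ∀ z ∈ W, Continuous (Φ z))
    (hd : ∀ θ, DifferentiableOn ℂ (fun z => Φ z θ) W) {z₀ : V} (hz₀ : z₀ ∈ W) :
    StronglyMeasurable (fun θ => fderiv ℂ (fun z => Φ z θ) z₀) := by
  let b := Module.finBasis ℂ V
  let c : Fin (Module.finrank ℂ V) → (V →L[ℂ] ℂ) := fun i =>
    LinearMap.toContinuousLinearMap (b.coord i)
  have hexp : ∀ θ, fderiv ℂ (fun z => Φ z θ) z₀ =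
      ∑ i, (fderiv ℂ (fun z => Φ z θ) z₀ (b i)) • c i := by
    intro θ
    ext v
    conv_lhs => rw [← b.sum_repr v]
    rw [map_sum]
    simp only [c, map_smul, smul_eq_mul, FunLike.coe_sum, Finset.sum_apply,
      FunLike.coe_smul, Pi.smul_apply, LinearMap.coe_toContinuousLinearMap',
      Module.Basis.coord_apply]
    exact Finset.sum_congr rfl fun i _ => mul_comm _ _
  have hcoef : ∀ i, StronglyMeasurable (fun θ => fderiv ℂ (fun z => Φ z θ) z₀ (b i)) := by
    intro i
    -- difference quotients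
    have hmem : ∀ᶠ n : ℕ in atTop, z₀ + ((n : ℂ) + 1)⁻¹ • b i ∈ W := by
      have ht : Tendsto (fun n : ℕ => z₀ + ((n : ℂ) + 1)⁻¹ • b i) atTop (𝓝 (z₀ + (0 : ℂ) • b i)) := by
        refine tendsto_const_nhds.add (Tendsto.smul_const ?_ _)
        have h1 : Tendsto (fun n : ℕ => (((n : ℝ) + 1)⁻¹ : ℝ)) atTop (𝓝 0) := by
          simpa [one_div] using tendsto_one_div_add_atTop_nhds_zero_nat (𝕜 := ℝ)
        have h2 := (Complex.continuous_ofReal.tendsto 0).comp h1
        simpa [Function.comp_def] using h2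
      rw [zero_smul, add_zero] at ht
      exact ht.eventually (hW.mem_nhds hz₀)
    obtain ⟨N, hN⟩ := eventually_atTop.1 hmem
    refine stronglyMeasurable_of_tendsto (f := fun (n : ℕ) (θ : ℝ) =>
      (((n + N : ℕ) : ℂ) + 1) • (Φ (z₀ + ((((n + N : ℕ) : ℂ) + 1)⁻¹) • b i) θ - Φ z₀ θ))
      atTop (fun n => ?_) ?_
    · have h := ((hc _ (hN (n + N) (by omega))).sub (hc _ hz₀)).const_smul
        (((n + N : ℕ) : ℂ) + 1)
      exact h.stronglyMeasurable
    · rw [tendsto_pi_nhds]
      intro θ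
      have hda : HasFDerivAt (fun z => Φ z θ) (fderiv ℂ (fun z => Φ z θ) z₀) z₀ :=
        ((hd θ).differentiableAt (hW.mem_nhds hz₀)).hasFDerivAt
      refine hda.lim (b i) (c := fun n : ℕ => (((n + N : ℕ) : ℂ) + 1)) ?_
      have h1 : ∀ n : ℕ, ‖(((n + N : ℕ) : ℂ) + 1)‖ = ((n + N : ℕ) : ℝ) + 1 := by
        intro n
        have : (((n + N : ℕ) : ℂ) + 1) = (((n + N + 1 : ℕ) : ℝ) : ℂ) := by push_cast; ring
        rw [this, Complex.norm_real]
        simp
        positivity
      simp only [h1]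
      refine tendsto_atTop_add_const_right _ _ ?_
      exact (tendsto_natCast_atTop_atTop (R := ℝ)).comp (tendsto_add_atTop_nat N)
  have : (fun θ => fderiv ℂ (fun z => Φ z θ) z₀) =
      fun θ => ∑ i, (fderiv ℂ (fun z => Φ z θ) z₀ (b i)) • c i := funext hexp
  rw [this]
  refine Finset.stronglyMeasurable_fun_sum _ (fun i _ => ?_)
  exact (hcoef i).smul_const _

/-- The integral of a bounded family of holomorphic functions on an open subset of a finite
dimensional complex vector space, depending continuously on `θ`, is holomorphic. -/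
theorem differentiableOn_integral [FiniteDimensional ℂ V] {Φ : V → ℝ → ℂ} {W : Set V}
    (hW : IsOpen W) (hc : ∀ z ∈ W, Continuous (Φ z))
    (hd : ∀ θ, DifferentiableOn ℂ (fun z => Φ z θ) W) {M : ℝ} (hM : ∀ z ∈ W, ∀ θ, ‖Φ z θ‖ ≤ M)
    (a b : ℝ) : DifferentiableOn ℂ (fun z => ∫ θ in a..b, Φ z θ) W := by
  intro z₀ hz₀
  obtain ⟨δ, hδ, hball⟩ := Metric.isOpen_iff.1 hW z₀ hz₀
  have hsub : ∀ z ∈ ball z₀ (δ / 2), ball z (δ / 2) ⊆ W := by
    intro z hz w hw
    apply hball
    rw [mem_ball] at *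
    calc dist w z₀ ≤ dist w z + dist z z₀ := dist_triangle _ _ _
      _ < δ / 2 + δ / 2 := add_lt_add hw hz
      _ = δ := by ring
  have hδ2 : 0 < δ / 2 := by positivity
  have key : ∀ s : Set ℝ, MeasurableSet s → volume s < ⊤ →
      HasFDerivAt (fun z => ∫ θ in s, Φ z θ)
        (∫ θ in s, fderiv ℂ (fun z => Φ z θ) z₀) z₀ := by
    intro s hs hsv
    have : IsFiniteMeasure (volume.restrict s) := ⟨by simpa using hsv⟩
    refine hasFDerivAt_integral_of_dominated_of_fderiv_le
      (F' := fun z θ => fderiv ℂ (fun z => Φ z θ) z) (bound := fun _ => 2 * M / (δ / 2))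
      (ball_mem_nhds z₀ hδ2) ?_ ?_ ?_ ?_ ?_ ?_
    · filter_upwards [ball_mem_nhds z₀ hδ] with z hz
      exact (hc z (hball hz)).aestronglyMeasurable
    · refine Integrable.mono' (g := fun _ => M) (integrable_const _)
        (hc z₀ hz₀).aestronglyMeasurable ?_
      exact Eventually.of_forall fun θ => hM z₀ hz₀ θ
    · exact (stronglyMeasurable_fderiv_param hW hc hd hz₀).aestronglyMeasurable
    · refine Eventually.of_forall fun θ z hz => ?_
      exact norm_fderiv_le hδ2 ((hd θ).mono (hsub z hz)) (fun w hw => hM w (hsub z hz hw) θ)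
    · exact integrable_const _
    · refine Eventually.of_forall fun θ z hz => ?_
      exact ((hd θ).differentiableAt (hW.mem_nhds (hsub z hz (mem_ball_self hδ2)))).hasFDerivAt
  have h1 := key (Ioc a b) measurableSet_Ioc (by simp)
  have h2 := key (Ioc b a) measurableSet_Ioc (by simp)
  exact (h1.sub h2).differentiableAt.differentiableWithinAt

end Groth.Agent.An.H870.ParamInt
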