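import Groth.Agent.An.H870.ParamInt
import Mathlib.Analysis.Complex.CauchyIntegral
import Mathlib.Analysis.Analytic.IsolatedZeros
import Mathlib.Analysis.Analytic.Uniqueness
import Mathlib.Topology.MetricSpace.Thickening

/-!
# Riemann's extension theorem for bounded holomorphic functions of several variables

`exists_extension`: a bounded holomorphic function on the complement of the zero set of a
holomorphic function `D` (not identically zero along some line through `z₀`) extends holomorphically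
over a neighbourhood of `z₀`.
-/

set_option autoImplicit false

open MeasureTheory Metric Set Filter Topology

noncomputable section

namespace Groth.Agent.An.H870.RExt

open Groth.Agent.An.H870.ParamInt

/-- One-variable statement: a bounded holomorphic function off the zeros of a holomorphic function
(not identically zero) satisfies the mean value property at the points where it is defined. -/
theorem circleAverage_eq {r r' : ℝ} (hr : 0 < r) (hr' : r < r') {d h : ℂ → ℂ}
    (hd : DifferentiableOn ℂ d (ball 0 r')) (hne : ∀ t ∈ sphere (0 : ℂ) r, d t ≠ 0)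
    (hh : ∀ t ∈ ball (0 : ℂ) r', d t ≠ 0 → DifferentiableAt ℂ h t) {M : ℝ}
    (hM : ∀ t ∈ ball (0 : ℂ) r', d t ≠ 0 → ‖h t‖ ≤ M) (h0 : d 0 ≠ 0) :
    Real.circleAverage h 0 r = h 0 := by
  have hda : AnalyticOnNhd ℂ d (ball 0 r') := hd.analyticOnNhd isOpen_ball
  have hpc : IsPreconnected (ball (0 : ℂ) r') := (convex_ball _ _).isPreconnected
  have h0mem : (0 : ℂ) ∈ ball (0 : ℂ) r' := mem_ball_self (hr.trans hr')
  -- `d` has isolated zeros
  have hiso : ∀ t ∈ ball (0 : ℂ) r', ∀ᶠ t' in 𝓝[≠] t, d t' ≠ 0 := by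
    intro t ht
    rcases (hda t ht).eventually_eq_zero_or_eventually_ne_zero with h1 | h1
    · exact absurd (hda.eqOn_zero_of_preconnected_of_eventuallyEq_zero hpc ht h1 h0mem) h0
    · exact h1
  let G : ℂ → ℂ := fun t => limUnder (𝓝[≠] t) h
  have hG1 : ∀ t ∈ ball (0 : ℂ) r', d t ≠ 0 → G t = h t := by
    intro t ht hdt
    have hc : ContinuousAt h t := (hh t ht hdt).continuousAt
    exact (hc.tendsto.mono_left nhdsWithin_le_nhds).limUnder_eq
  have hG2 : ∀ t ∈ ball (0 : ℂ) r', DifferentiableAt ℂ G t := by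
    intro t ht
    have hnh : ∀ᶠ t' in 𝓝 t, t' ∈ ball (0 : ℂ) r' ∧ (t' ≠ t → d t' ≠ 0) :=
      (Filter.eventually_of_mem (isOpen_ball.mem_nhds ht) (fun _ h => h)).and
        (eventually_nhdsWithin_iff.1 (hiso t ht))
    obtain ⟨s, hs, hs'⟩ := eventually_iff_exists_mem.1 hnh
    have h1 : DifferentiableOn ℂ (Function.update h t (limUnder (𝓝[≠] t) h)) s := by
      refine Complex.differentiableOn_update_limUnder_of_bddAbove hs ?_ ?_
      · intro t' ht'
        exact (hh t' (hs' t' ht'.1).1 ((hs' t' ht'.1).2 ht'.2)).differentiableWithinAt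
      · refine ⟨M, ?_⟩
        rintro _ ⟨t', ht', rfl⟩
        exact hM t' (hs' t' ht'.1).1 ((hs' t' ht'.1).2 ht'.2)
    have h2 : DifferentiableAt ℂ (Function.update h t (limUnder (𝓝[≠] t) h)) t :=
      h1.differentiableAt hs
    refine h2.congr_of_eventuallyEq ?_
    filter_upwards [hs] with t' ht'
    by_cases htt : t' = t
    · subst htt
      simp [G]
    · rw [Function.update_of_ne htt]
      exact hG1 t' (hs' t' ht').1 ((hs' t' ht').2 htt)
  have hcl : closedBall (0 : ℂ) r ⊆ ball 0 r' := closedBall_subset_ball hr'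
  have h3 : Real.circleAverage G 0 r = G 0 := by
    apply DiffContOnCl.circleAverage
    rw [abs_of_pos hr]
    refine DifferentiableOn.diffContOnCl ?_
    intro t ht
    rw [closure_ball _ hr.ne'] at ht
    exact (hG2 t (hcl ht)).differentiableWithinAt
  have h4 : Real.circleAverage h 0 r = Real.circleAverage G 0 r := by
    apply Real.circleAverage_congr_sphere
    intro t ht
    rw [abs_of_pos hr] at ht
    exact (hG1 t (hcl (sphere_subset_closedBall ht)) (hne t ht)).symm
  rw [h4, h3]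
  exact hG1 0 h0mem h0

variable {V : Type*} [NormedAddCommGroup V] [NormedSpace ℂ V]

/-- Riemann's extension theorem. -/
theorem exists_extension [FiniteDimensional ℂ V] {U : Set V} (hU : IsOpen U) {z₀ : V} (hz₀ : z₀ ∈ U)
    {D : V → ℂ} (hD : DifferentiableOn ℂ D U) {v : V} (hv : ¬ ∀ᶠ t : ℂ in 𝓝 0, D (z₀ + t • v) = 0)
    {f : V → ℂ} (hf : ∀ z ∈ U, D z ≠ 0 → DifferentiableAt ℂ f z)
    {M : ℝ} (hM : ∀ z ∈ U, D z ≠ 0 → ‖f z‖ ≤ M) :
    ∃ (W : Set V) (F : V → ℂ), IsOpen W ∧ z₀ ∈ W ∧ W ⊆ U ∧ DifferentiableOn ℂ F W ∧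
      (∀ z ∈ W, ‖F z‖ ≤ M) ∧ (∀ z ∈ W, D z ≠ 0 → F z = f z) := by
  have hline : ∀ z : V, Continuous (fun t : ℂ => z + t • v) := fun z => by fun_prop
  have hlined : ∀ z : V, Differentiable ℂ (fun t : ℂ => z + t • v) := fun z => by fun_prop
  -- choose `r₀`
  have hpre : IsOpen ((fun t : ℂ => z₀ + t • v) ⁻¹' U) := hU.preimage (hline z₀)
  have h0pre : (0 : ℂ) ∈ (fun t : ℂ => z₀ + t • v) ⁻¹' U := by simpa using hz₀
  have hg : AnalyticAt ℂ (fun t : ℂ => D (z₀ + t • v)) 0 := by
    have : DifferentiableOn ℂ (fun t : ℂ => D (z₀ + t • v)) ((fun t : ℂ => z₀ + t • v) ⁻¹' U) :=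
      hD.comp (hlined z₀).differentiableOn (fun t ht => ht)
    exact this.analyticAt (hpre.mem_nhds h0pre)
  have hne : ∀ᶠ t : ℂ in 𝓝[≠] 0, D (z₀ + t • v) ≠ 0 :=
    hg.eventually_eq_zero_or_eventually_ne_zero.resolve_left hv
  have hnh : ∀ᶠ t : ℂ in 𝓝 0, z₀ + t • v ∈ U ∧ (t ≠ 0 → D (z₀ + t • v) ≠ 0) :=
    (Filter.eventually_of_mem (hpre.mem_nhds h0pre) (fun _ h => h)).and
      (eventually_nhdsWithin_iff.1 hne)
  obtain ⟨r₀, hr₀, hr₀'⟩ := Metric.eventually_nhds_iff_ball.1 hnh
  set r : ℝ := r₀ / 2 with hrdef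
  set r' : ℝ := 3 * r₀ / 4 with hr'def
  have hr : 0 < r := by positivity
  have hrr' : r < r' := by rw [hrdef, hr'def]; linarith
  have hr'r₀ : r' < r₀ := by rw [hr'def]; linarith
  -- compactness
  have hK1 : IsCompact ((fun t : ℂ => z₀ + t • v) '' closedBall 0 r') :=
    (isCompact_closedBall _ _).image (hline z₀)
  have hK1U : ((fun t : ℂ => z₀ + t • v) '' closedBall 0 r') ⊆ U := by
    rintro _ ⟨t, ht, rfl⟩
    exact (hr₀' t (closedBall_subset_ball hr'r₀ ht)).1
  have hK2 : IsCompact ((fun t : ℂ => z₀ + t • v) '' sphere 0 r) :=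
    (isCompact_sphere _ _).image (hline z₀)
  have hDo : IsOpen (U ∩ {z | D z ≠ 0}) :=
    hD.continuousOn.isOpen_inter_preimage hU isOpen_compl_singleton
  have hK2U : ((fun t : ℂ => z₀ + t • v) '' sphere 0 r) ⊆ U ∩ {z | D z ≠ 0} := by
    rintro _ ⟨t, ht, rfl⟩
    have htb : t ∈ ball (0 : ℂ) r₀ :=
      closedBall_subset_ball (hrr'.trans hr'r₀) (sphere_subset_closedBall ht)
    have ht0 : t ≠ 0 := by
      rintro rfl
      rw [mem_sphere, dist_self] at ht
      exact hr.ne ht
    exact ⟨(hr₀' t htb).1, (hr₀' t htb).2 ht0⟩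
  obtain ⟨δ₁, hδ₁, hδ₁'⟩ := hK1.exists_thickening_subset_open hU hK1U
  obtain ⟨δ₂, hδ₂, hδ₂'⟩ := hK2.exists_thickening_subset_open hDo hK2U
  set δ := min δ₁ δ₂ with hδdef
  have hδ : 0 < δ := lt_min hδ₁ hδ₂
  have hW1 : ∀ z ∈ ball z₀ δ, ∀ t ∈ closedBall (0 : ℂ) r', z + t • v ∈ U := by
    intro z hz t ht
    apply hδ₁'
    rw [mem_thickening_iff]
    refine ⟨z₀ + t • v, ⟨t, ht, rfl⟩, ?_⟩
    rw [dist_add_right]
    exact (mem_ball.1 hz).trans_le (min_le_left _ _)
  have hW2 : ∀ z ∈ ball z₀ δ, ∀ t ∈ sphere (0 : ℂ) r, z + t • v ∈ U ∧ D (z + t • v) ≠ 0 := by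
    intro z hz t ht
    apply hδ₂'
    rw [mem_thickening_iff]
    refine ⟨z₀ + t • v, ⟨t, ht, rfl⟩, ?_⟩
    rw [dist_add_right]
    exact (mem_ball.1 hz).trans_le (min_le_right _ _)
  have hcm : ∀ θ : ℝ, circleMap 0 r θ ∈ sphere (0 : ℂ) r := fun θ => circleMap_mem_sphere 0 hr.le θ
  refine ⟨ball z₀ δ, fun z => Real.circleAverage (fun t => f (z + t • v)) 0 r, isOpen_ball,
    mem_ball_self hδ, ?_, ?_, ?_, ?_⟩
  · intro z hz
    have := hW1 z hz 0 (mem_closedBall_self (hr.trans hrr').le)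
    simpa using this
  · -- holomorphy
    have h1 : DifferentiableOn ℂ
        (fun z => ∫ θ in (0 : ℝ)..(2 * Real.pi), f (z + circleMap 0 r θ • v)) (ball z₀ δ) := by
      refine differentiableOn_integral (Φ := fun z θ => f (z + circleMap 0 r θ • v)) isOpen_ball
        ?_ ?_ (M := M) ?_ 0 (2 * Real.pi)
      · intro z hz
        rw [continuous_iff_continuousAt]
        intro θ
        have h2 := (hf _ (hW2 z hz _ (hcm θ)).1 (hW2 z hz _ (hcm θ)).2).continuousAt
        have h3 : ContinuousAt (fun θ : ℝ => z + circleMap 0 r θ • v) θ := by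
          have := continuous_circleMap (0 : ℂ) r
          fun_prop
        exact ContinuousAt.comp (f := fun θ : ℝ => z + circleMap 0 r θ • v) h2 h3
      · intro θ z hz
        have h2 := hf _ (hW2 z hz _ (hcm θ)).1 (hW2 z hz _ (hcm θ)).2
        have h3 : DifferentiableAt ℂ (fun z : V => z + circleMap 0 r θ • v) z := by fun_prop
        exact (DifferentiableAt.comp (f := fun z : V => z + circleMap 0 r θ • v) z h2
          h3).differentiableWithinAt
      · intro z hz θ
        exact hM _ (hW2 z hz _ (hcm θ)).1 (hW2 z hz _ (hcm θ)).2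
    exact h1.const_smul ((2 * Real.pi)⁻¹)
  · intro z hz
    change ‖Real.circleAverage (fun t => f (z + t • v)) 0 r‖ ≤ M
    rw [Real.circleAverage_def, norm_smul, Real.norm_eq_abs, abs_of_pos (by positivity)]
    have h1 : ‖∫ θ in (0 : ℝ)..(2 * Real.pi), f (z + circleMap 0 r θ • v)‖ ≤
        M * |2 * Real.pi - 0| :=
      intervalIntegral.norm_integral_le_of_norm_le_const (fun θ _ =>
        hM _ (hW2 z hz _ (hcm θ)).1 (hW2 z hz _ (hcm θ)).2)
    rw [sub_zero, abs_of_pos (by positivity)] at h1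
    calc (2 * Real.pi)⁻¹ * ‖∫ θ in (0 : ℝ)..(2 * Real.pi), f (z + circleMap 0 r θ • v)‖
        ≤ (2 * Real.pi)⁻¹ * (M * (2 * Real.pi)) := by gcongr
      _ = M := by
        have : (Real.pi : ℝ) ≠ 0 := Real.pi_ne_zero
        field_simp
  · intro z hz hDz
    have h1 := circleAverage_eq (d := fun t => D (z + t • v)) (h := fun t => f (z + t • v))
      hr hrr' (M := M) ?_ ?_ ?_ ?_ ?_
    · simpa using h1
    · exact hD.comp (hlined z).differentiableOn
        (fun t ht => hW1 z hz t (ball_subset_closedBall ht))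
    · intro t ht
      exact (hW2 z hz t ht).2
    · intro t ht hdt
      have h2 := hf _ (hW1 z hz t (ball_subset_closedBall ht)) hdt
      exact DifferentiableAt.comp (f := fun t : ℂ => z + t • v) t h2 (hlined z t)
    · intro t ht hdt
      exact hM _ (hW1 z hz t (ball_subset_closedBall ht)) hdt
    · simpa using hDz

end Groth.Agent.An.H870.RExt
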