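import Groth.Agent.An.H870.RExt
import Mathlib.Algebra.MvPolynomial.CommRing
import Mathlib.Algebra.MvPolynomial.Eval
import Mathlib.Analysis.Calculus.MeanValue

/-!
# Hadamard's lemma and Taylor polynomials for holomorphic functions of several variables
-/

set_option autoImplicit false

open Metric Set Filter Topology Asymptotics

noncomputable section

namespace Groth.Agent.An.H870.Taylor

open Groth.Agent.An.H870.ParamInt Groth.Agent.An.H870.RExt

variable {n : ℕ}

lemma norm_update_sub_le (z z₀ : Fin n → ℂ) (i : Fin n) :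
    ‖Function.update z i (z₀ i) - z₀‖ ≤ ‖z - z₀‖ := by
  rw [pi_norm_le_iff_of_nonneg (norm_nonneg _)]
  intro j
  by_cases hj : j = i
  · subst hj
    simp
  · rw [Pi.sub_apply, Function.update_of_ne hj]
    exact norm_le_pi_norm (z - z₀) j

lemma norm_sub_update (z z₀ : Fin n → ℂ) (i : Fin n) :
    ‖z - Function.update z i (z₀ i)‖ ≤ ‖z i - z₀ i‖ := by
  rw [pi_norm_le_iff_of_nonneg (norm_nonneg _)]
  intro j
  by_cases hj : j = i
  · subst hj
    simp
  · rw [Pi.sub_apply, Function.update_of_ne hj, sub_self, norm_zero]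
    exact norm_nonneg _

/-- The map setting the `i`-th coordinate to `z₀ i`. -/
lemma differentiable_update (i : Fin n) (c : ℂ) :
    Differentiable ℂ (fun z : Fin n → ℂ => Function.update z i c) := by
  rw [differentiable_pi]
  intro j
  by_cases hj : j = i
  · subst hj
    simp
  · simp only [Function.update_of_ne hj]
    exact differentiable_apply j

theorem exists_div_coord {W : Set (Fin n → ℂ)} (hW : IsOpen W) {z₀ : Fin n → ℂ} (hz₀ : z₀ ∈ W)
    {F : (Fin n → ℂ) → ℂ} (hF : DifferentiableOn ℂ F W) (i : Fin n) :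
    ∃ (W' : Set (Fin n → ℂ)) (G : (Fin n → ℂ) → ℂ), IsOpen W' ∧ z₀ ∈ W' ∧ W' ⊆ W ∧
      DifferentiableOn ℂ G W' ∧
      ∀ z ∈ W', F z = F (Function.update z i (z₀ i)) + (z i - z₀ i) * G z := by
  have hcont : ContinuousAt F z₀ := (hF.differentiableAt (hW.mem_nhds hz₀)).continuousAt
  have hbd : ∀ᶠ z in 𝓝 z₀, ‖F z‖ ≤ ‖F z₀‖ + 1 := by
    have := hcont.norm.eventually (eventually_lt_nhds (lt_add_one ‖F z₀‖))
    filter_upwards [this] with z hz using hz.le
  obtain ⟨ε, hε, hball⟩ := Metric.eventually_nhds_iff_ball.1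
    (hbd.and (Filter.eventually_of_mem (hW.mem_nhds hz₀) (fun _ h => h)))
  set M := ‖F z₀‖ + 1 with hM
  have hε2 : 0 < ε / 2 := by positivity
  have hsub : ∀ z ∈ ball z₀ (ε / 2), ball z (ε / 2) ⊆ ball z₀ ε := by
    intro z hz w hw
    rw [mem_ball] at *
    calc dist w z₀ ≤ dist w z + dist z z₀ := dist_triangle _ _ _
      _ < ε / 2 + ε / 2 := add_lt_add hw hz
      _ = ε := by ring
  have hfd : ∀ z ∈ ball z₀ (ε / 2), ‖fderiv ℂ F z‖ ≤ 2 * M / (ε / 2) := fun z hz =>
    norm_fderiv_le hε2 (fun w hw => (hF w (hball w (hsub z hz hw)).2).mono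
      (fun w' hw' => (hball w' (hsub z hz hw')).2)) (fun w hw => (hball w (hsub z hz hw)).1)
  have hdiff : ∀ z ∈ ball z₀ (ε / 2), DifferentiableAt ℂ F z := fun z hz =>
    hF.differentiableAt (hW.mem_nhds (hball z (ball_subset_ball (by linarith) hz)).2)
  have hupd : ∀ z ∈ ball z₀ (ε / 2), Function.update z i (z₀ i) ∈ ball z₀ (ε / 2) := by
    intro z hz
    rw [mem_ball, dist_eq_norm] at *
    exact (norm_update_sub_le z z₀ i).trans_lt hz
  have hlip : ∀ z ∈ ball z₀ (ε / 2), ‖F z - F (Function.update z i (z₀ i))‖ ≤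
      2 * M / (ε / 2) * ‖z i - z₀ i‖ := by
    intro z hz
    have h1 := (convex_ball z₀ (ε / 2)).norm_image_sub_le_of_norm_fderiv_le (𝕜 := ℂ)
      hdiff hfd (hupd z hz) hz
    refine h1.trans ?_
    have : 0 ≤ 2 * M / (ε / 2) := by positivity
    exact mul_le_mul_of_nonneg_left (norm_sub_update z z₀ i) this
  obtain ⟨W', G, hW'o, hz₀W', hW'sub, hGd, -, hG⟩ := exists_extension (V := Fin n → ℂ)
    (U := ball z₀ (ε / 2)) isOpen_ball (mem_ball_self hε2) (D := fun z => z i - z₀ i)
    (by fun_prop) (v := Pi.single i 1) (by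
      simp only [Pi.add_apply, Pi.smul_apply, Pi.single_eq_same, smul_eq_mul, mul_one,
        add_sub_cancel_left]
      intro h
      have h2 : ∀ᶠ t : ℂ in 𝓝[≠] 0, t = 0 := h.filter_mono nhdsWithin_le_nhds
      have h3 : ∀ᶠ t : ℂ in 𝓝[≠] 0, t ≠ 0 := eventually_mem_nhdsWithin
      obtain ⟨t, ht, ht'⟩ := (h2.and h3).exists
      exact ht' ht)
    (f := fun z => (F z - F (Function.update z i (z₀ i))) / (z i - z₀ i))
    (fun z hz hne => by
      have h1 : DifferentiableAt ℂ (fun z => F (Function.update z i (z₀ i))) z :=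
        DifferentiableAt.comp z (hdiff _ (hupd z hz)) (differentiable_update i (z₀ i) z)
      have h2 : DifferentiableAt ℂ (fun z : Fin n → ℂ => z i - z₀ i) z := by fun_prop
      have h3 : DifferentiableAt ℂ (fun z => F z - F (Function.update z i (z₀ i))) z :=
        (hdiff z hz).fun_sub h1
      simp only [div_eq_mul_inv]
      exact h3.fun_mul (h2.fun_inv hne))
    (M := 2 * M / (ε / 2)) (fun z hz hne => by
      rw [norm_div, div_le_iff₀ (norm_pos_iff.2 hne)]
      exact hlip z hz)
  refine ⟨W', G, hW'o, hz₀W', fun z hz => ?_, hGd, fun z hz => ?_⟩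
  · exact (hball z (ball_subset_ball (by linarith) (hW'sub hz))).2
  · by_cases hne : z i - z₀ i = 0
    · have : Function.update z i (z₀ i) = z := by
        rw [← sub_eq_zero.1 hne, Function.update_eq_self]
      rw [this, hne, zero_mul, add_zero]
    · rw [hG z hz hne, mul_div_cancel₀ _ hne]
      ring

theorem hadamard {W : Set (Fin n → ℂ)} (hW : IsOpen W) {z₀ : Fin n → ℂ} (hz₀ : z₀ ∈ W)
    {F : (Fin n → ℂ) → ℂ} (hF : DifferentiableOn ℂ F W) :
    ∃ (W' : Set (Fin n → ℂ)) (G : Fin n → (Fin n → ℂ) → ℂ), IsOpen W' ∧ z₀ ∈ W' ∧ W' ⊆ W ∧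
      (∀ i, DifferentiableOn ℂ (G i) W') ∧
      ∀ z ∈ W', F z = F z₀ + ∑ i, (z i - z₀ i) * G i z := by
  classical
  have key : ∀ s : Finset (Fin n), ∃ (W' : Set (Fin n → ℂ)) (G : Fin n → (Fin n → ℂ) → ℂ),
      IsOpen W' ∧ z₀ ∈ W' ∧ W' ⊆ W ∧ (∀ i, DifferentiableOn ℂ (G i) W') ∧
      ∀ z ∈ W', F z = F (s.piecewise z₀ z) + ∑ i ∈ s, (z i - z₀ i) * G i z := by
    intro s
    induction s using Finset.induction_on with
    | empty =>
      exact ⟨W, fun _ _ => 0, hW, hz₀, subset_rfl, fun i => differentiableOn_const _,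
        fun z _ => by simp⟩
    | insert i s hi ih =>
      obtain ⟨W₁, G₁, hW₁, hz₁, hsub₁, hd₁, hG₁⟩ := ih
      -- the function `z ↦ F (s.piecewise z₀ z)`
      have hpd : Differentiable ℂ (fun z : Fin n → ℂ => s.piecewise z₀ z) := by
        rw [differentiable_pi]
        intro j
        by_cases hj : j ∈ s
        · simp [hj]
        · simp only [hj, not_false_eq_true, Finset.piecewise_eq_of_notMem]
          exact differentiable_apply j
      have hpre : IsOpen ((fun z : Fin n → ℂ => s.piecewise z₀ z) ⁻¹' W) :=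
        hW.preimage hpd.continuous
      have hzpre : z₀ ∈ ((fun z : Fin n → ℂ => s.piecewise z₀ z) ⁻¹' W) := by
        rw [mem_preimage, Finset.piecewise_same]
        exact hz₀
      obtain ⟨W₂, g, hW₂, hz₂, hsub₂, hd₂, hg₂⟩ := exists_div_coord hpre hzpre
        (F := fun z => F (s.piecewise z₀ z)) (hF.comp hpd.differentiableOn (fun z hz => hz)) i
      refine ⟨W₁ ∩ W₂, Function.update G₁ i g, hW₁.inter hW₂, ⟨hz₁, hz₂⟩,
        inter_subset_left.trans hsub₁, fun j => ?_, fun z hz => ?_⟩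
      · by_cases hj : j = i
        · subst hj
          rw [Function.update_self]
          exact hd₂.mono inter_subset_right
        · rw [Function.update_of_ne hj]
          exact (hd₁ j).mono inter_subset_left
      · rw [hG₁ z hz.1, hg₂ z hz.2, Finset.sum_insert hi, Function.update_self]
        have h1 : s.piecewise z₀ (Function.update z i (z₀ i)) = (insert i s).piecewise z₀ z := by
          ext j
          by_cases hj : j = i
          · subst hj
            simp [hi]
          · by_cases hjs : j ∈ s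
            · simp [hjs]
            · have : j ∉ insert i s := by simp [hj, hjs]
              simp [hjs, this, hj]
        have h2 : ∑ x ∈ s, (z x - z₀ x) * Function.update G₁ i g x z =
            ∑ x ∈ s, (z x - z₀ x) * G₁ x z := by
          refine Finset.sum_congr rfl (fun x hx => ?_)
          have : x ≠ i := by rintro rfl; exact hi hx
          rw [Function.update_of_ne this]
        rw [h1, h2]
        ring
  obtain ⟨W', G, h1, h2, h3, h4, h5⟩ := key Finset.univ
  refine ⟨W', G, h1, h2, h3, h4, fun z hz => ?_⟩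
  rw [h5 z hz, Finset.piecewise_univ]

open MvPolynomial in
/-- Taylor polynomials. -/
theorem exists_taylor (N : ℕ) {W : Set (Fin n → ℂ)} (hW : IsOpen W) {z₀ : Fin n → ℂ} (hz₀ : z₀ ∈ W)
    {F : (Fin n → ℂ) → ℂ} (hF : DifferentiableOn ℂ F W) :
    ∃ Q : MvPolynomial (Fin n) ℂ,
      (fun z => F z - eval z Q) =O[𝓝 z₀] (fun z => ‖z - z₀‖ ^ N) := by
  induction N generalizing W F with
  | zero =>
    refine ⟨0, ?_⟩
    have hcont : ContinuousAt F z₀ := (hF.differentiableAt (hW.mem_nhds hz₀)).continuousAt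
    simpa using hcont.isBigO_one ℝ
  | succ N ih =>
    obtain ⟨W', G, hW', hz', -, hd, hG⟩ := hadamard hW hz₀ hF
    choose Q hQ using fun i => ih hW' hz' (hd i)
    refine ⟨C (F z₀) + ∑ i, (X i - C (z₀ i)) * Q i, ?_⟩
    have h1 : (fun z : Fin n → ℂ => ∑ i, (z i - z₀ i) * (G i z - eval z (Q i))) =O[𝓝 z₀]
        (fun z => ‖z - z₀‖ ^ (N + 1)) := by
      refine IsBigO.fun_sum (fun i _ => ?_)
      have h2 : (fun z : Fin n → ℂ => z i - z₀ i) =O[𝓝 z₀] (fun z => ‖z - z₀‖) := by
        refine IsBigO.of_bound 1 (Eventually.of_forall fun z => ?_)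
        rw [one_mul, norm_norm]
        exact norm_le_pi_norm (z - z₀) i
      have h3 := h2.mul (hQ i)
      refine h3.congr_right (fun z => ?_)
      ring
    refine h1.congr' ?_ EventuallyEq.rfl
    filter_upwards [hW'.mem_nhds hz'] with z hz
    rw [hG z hz]
    simp only [map_add, map_sum, map_mul, map_sub, eval_X, eval_C, mul_sub, Finset.sum_sub_distrib]
    ring

end Groth.Agent.An.H870.Taylor
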